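import Cfsg.Agent.Lib.PGroups.PairProd.Pairs
import Cfsg.Agent.Lib.Perm.ThreePrimeOrder.PrincipalValue
import Cfsg.Agent.Lib.Perm.ThreePrimeOrder.Five
import Cfsg.Agent.Lib.CharDegree.Basic
import Cfsg.Prelude.Def_Transfer

/-!
# Products of elements of order `p` and the principal block

`χ(a) χ(b) / χ(1)` is the average of `χ (a b^g)`. Principal block characters constant on the
`p`-singular elements, together with weak block orthogonality, exclude simple groups in which every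
two elements of order `p` generate a `p`-solvable subgroup.
-/

set_option autoImplicit false

namespace CfsgLib.PGroups.PairProd

open Cfsg CfsgLib.Char CfsgLib.Blocks
open CfsgLib.Perm
open scoped Classical

variable {G : Type*} [Group G] [Fintype G] {p : ℕ}

/-- The arithmetical contradiction. -/
theorem false_of_cubic {ι : Type*} (s : Finset ι) (c : ι → ℤ) (d : ι → ℕ) (p q : ℕ) (hp : 3 ≤ p)
    (hd : ∀ i ∈ s, 0 < d i) (hb : ∀ i ∈ s, 0 < c i → 3 * c i ≤ (d i : ℤ))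
    (horth : 1 + ∑ i ∈ s, c i * (d i : ℤ) = 0) (hq : (q : ℤ) = 1 + ∑ i ∈ s, c i ^ 2)
    (hge : ((p : ℝ) - 2) * q ≤ ((p : ℝ) - 1) * (1 + ∑ i ∈ s, (c i : ℝ) ^ 3 / d i)) : False := by
  obtain ⟨i₀, hi₀, hneg⟩ : ∃ i ∈ s, c i < 0 := by
    by_contra h
    push Not at h
    have : 0 ≤ ∑ i ∈ s, c i * (d i : ℤ) :=
      Finset.sum_nonneg fun i hi => mul_nonneg (h i hi) (Int.natCast_nonneg _)
    omega
  have hterm : ∀ i ∈ s, (c i : ℝ) ^ 3 / d i ≤ (c i : ℝ) ^ 2 / 3 := by
    intro i hi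
    have hdi : (0 : ℝ) < d i := by exact_mod_cast hd i hi
    rcases le_or_gt (c i) 0 with h | h
    · have hc : (c i : ℝ) ≤ 0 := by exact_mod_cast h
      have h3 : (c i : ℝ) ^ 3 / d i ≤ 0 :=
        div_nonpos_of_nonpos_of_nonneg (by nlinarith [sq_nonneg (c i : ℝ)]) hdi.le
      linarith [sq_nonneg (c i : ℝ)]
    · rw [div_le_div_iff₀ hdi (by norm_num)]
      have : 3 * (c i : ℝ) ≤ (d i : ℝ) := by exact_mod_cast hb i hi h
      nlinarith [sq_nonneg (c i : ℝ)]
  have hneg' : (c i₀ : ℝ) ^ 3 / d i₀ < 0 := by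
    have hdi : (0 : ℝ) < d i₀ := by exact_mod_cast hd i₀ hi₀
    have hc : (c i₀ : ℝ) < 0 := by exact_mod_cast hneg
    refine div_neg_of_neg_of_pos ?_ hdi
    have := mul_pos (neg_pos.2 hc) (neg_pos.2 hc)
    nlinarith
  have hsq : (1 : ℤ) ≤ c i₀ ^ 2 := by nlinarith
  have hq2 : 2 ≤ q := by
    have h1 := Finset.single_le_sum (f := fun i => c i ^ 2) (fun i _ => sq_nonneg (c i)) hi₀
    omega
  have hsum : ∑ i ∈ s, (c i : ℝ) ^ 3 / d i < ∑ i ∈ s.erase i₀, (c i : ℝ) ^ 2 / 3 := by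
    rw [← Finset.add_sum_erase _ _ hi₀]
    have := Finset.sum_le_sum (s := s.erase i₀) (fun i hi => hterm i (Finset.mem_of_mem_erase hi))
    linarith
  have hqR : (q : ℝ) = 1 + (c i₀ : ℝ) ^ 2 + ∑ i ∈ s.erase i₀, (c i : ℝ) ^ 2 := by
    rw [add_assoc, Finset.add_sum_erase _ (fun i => (c i : ℝ) ^ 2) hi₀]
    exact_mod_cast hq
  rw [← Finset.sum_div] at hsum
  have hsqR : (1 : ℝ) ≤ (c i₀ : ℝ) ^ 2 := by exact_mod_cast hsq
  have hpR : (3 : ℝ) ≤ p := by exact_mod_cast hp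
  have hq2R : (2 : ℝ) ≤ q := by exact_mod_cast hq2
  nlinarith

/-- The trace over `⟨x⟩`-translates of the conjugates of `x`. -/
theorem sum_powers_identity (χ : IrrCharacter G) {x : G} {c : ℂ}
    (hc : ∀ k ∈ Finset.Icc 1 (p - 1), (χ : G → ℂ) (x ^ k) = c) (hx : (χ : G → ℂ) x = c) :
    ∑ k ∈ Finset.Icc 1 (p - 1), ∑ g : G, (χ : G → ℂ) (x ^ k * (g * x * g⁻¹)) =
      ((p - 1 : ℕ) : ℂ) * (Nat.card G : ℂ) * c ^ 2 / (χ : G → ℂ) 1 := by
  rw [Finset.sum_congr rfl fun k hk => by rw [sum_char_mul_conj, hc k hk, hx]]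
  rw [Finset.sum_const, Nat.card_Icc, nsmul_eq_mul, Nat.add_sub_cancel]
  ring

variable [hp : Fact p.Prime] {M : Ideal AlgInt} [M.IsPrime]

/-- The norm of the principal block on a `p`-element with `p`-nilpotent centralizer. -/
theorem sum_norm_sq_le (hM : IsPModular p M) {x : G} (hx : ∃ k : ℕ, orderOf x = p ^ k)
    (P : Sylow p G) (hC : HasNormalPComplement p (Subgroup.centralizer ({x} : Set G))) :
    ∑ᶠ ζ ∈ principalBlock M G, ‖(ζ : G → ℂ) x‖ ^ 2 ≤ (Nat.card (P : Subgroup G) : ℝ) := by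
  set C := Subgroup.centralizer ({x} : Set G) with hCdef
  have := Fintype.ofFinite C
  obtain ⟨S, N, hN, hNS⟩ := hC
  have := hN
  have h1 : ¬ p ∣ orderOf (1 : C) := by simp [hp.out.ne_one]
  have h := sum_principalBlock_norm_sq (M := M) hM hx h1
  rw [OneMemClass.coe_one, mul_one] at h
  rw [h]
  have := Fintype.ofFinite (IrrCharacter C)
  have hidx : N.index = Nat.card (S : Subgroup C) := hNS.symm.index_eq_card
  have hNp : ¬ p ∣ Nat.card N := by
    rw [← hNS.index_eq_card]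
    exact S.not_dvd_index
  have hle : N.index ≤ Nat.card (P : Subgroup G) := by
    rw [hidx, ← Subgroup.card_map_of_injective C.subtype_injective, P.card_eq_multiplicity]
    obtain ⟨k, hk⟩ := IsPGroup.iff_card.1 (S.2.map C.subtype)
    rw [hk]
    refine Nat.pow_le_pow_right hp.out.pos ((hp.out.pow_dvd_iff_le_factorization Nat.card_pos.ne').1 ?_)
    rw [← hk]
    exact Subgroup.card_subgroup_dvd_card _
  refine le_trans ?_ (Nat.cast_le.2 hle)
  rw [finsum_mem_eq_finite_toFinset_sum _ (Set.toFinite _)]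
  have hsum : ∑ ψ ∈ Finset.univ.filter (fun ψ : IrrCharacter C =>
      ∀ g ∈ N, (ψ : C → ℂ) g = (ψ : C → ℂ) 1), (ψ : C → ℂ) 1 ^ 2 = (N.index : ℂ) := by
    rw [Finset.sum_filter]
    convert CfsgLib.CharDegree.sum_sq_degree_of_le_ker (N := N)
  have hR : (N.index : ℝ) = ∑ ψ ∈ Finset.univ.filter (fun ψ : IrrCharacter C =>
      ∀ g ∈ N, (ψ : C → ℂ) g = (ψ : C → ℂ) 1), ‖(ψ : C → ℂ) 1‖ ^ 2 := by
    have h2 : ∀ ψ : IrrCharacter C, (ψ : C → ℂ) 1 ^ 2 = ((‖(ψ : C → ℂ) 1‖ ^ 2 : ℝ) : ℂ) := fun ψ => by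
      rw [apply_one_eq_charDegree, Complex.norm_natCast]; push_cast; rfl
    rw [Finset.sum_congr rfl fun ψ _ => h2 ψ, ← Complex.ofReal_sum] at hsum
    have := congrArg Complex.re hsum
    rw [Complex.ofReal_re, Complex.natCast_re] at this
    exact this.symm
  rw [hR]
  refine Finset.sum_le_sum_of_subset_of_nonneg (fun ψ hψ => ?_) fun ψ _ _ => by positivity
  rw [Finset.mem_filter]
  exact ⟨Finset.mem_univ _, apply_eq_of_mem_principalBlock N hM hNp
    ((Set.Finite.mem_toFinset _).1 hψ)⟩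

/-- The main criterion: no simple group in which the products are mostly `p`-singular and the principal
block is constant on `p`-singular elements. -/
theorem false_of_constant [IsSimpleGroup G] (hG : ¬ IsMulCommutative G) (hp3 : 3 ≤ p)
    (hM : IsPModular p M) {x : G} (hx : orderOf x = p) (P : Sylow p G)
    (hP : Nat.card (P : Subgroup G) ≥ 3)
    (hone : ∀ (g : G) (k l : ℕ), k ∈ Finset.Icc 1 (p - 1) → l ∈ Finset.Icc 1 (p - 1) →
      ¬ p ∣ orderOf (x ^ k * (g * x * g⁻¹)) → ¬ p ∣ orderOf (x ^ l * (g * x * g⁻¹)) → k = l)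
    (c : IrrCharacter G → ℤ)
    (hc : ∀ χ ∈ principalBlock M G, ∀ z : G, p ∣ orderOf z → (χ : G → ℂ) z = (c χ : ℂ))
    (hq : ∑ᶠ χ ∈ principalBlock M G, ‖(χ : G → ℂ) x‖ ^ 2 ≤ (Nat.card (P : Subgroup G) : ℝ)) : False := by
  have := Fintype.ofFinite (IrrCharacter G)
  have hperf := ThreePrimeOrder.perfect_of_nc hG
  set B := (Set.toFinite (principalBlock M G)).toFinset with hB
  have hmem : ∀ χ, χ ∈ B ↔ χ ∈ principalBlock M G := fun χ => Set.Finite.mem_toFinset _
  have htriv : trivChar G ∈ B := (hmem _).2 trivChar_mem_principalBlock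
  have hxd : p ∣ orderOf x := by rw [hx]
  have hctriv : c (trivChar G) = 1 := by
    have := hc _ ((hmem _).1 htriv) x hxd
    rw [trivChar_apply] at this
    exact_mod_cast this.symm
  set d : IrrCharacter G → ℕ := fun χ => charDegree (χ : G → ℂ) with hd
  have hdpos : ∀ χ, 0 < d χ := fun χ => CfsgLib.CharDegree.charDegree_pos χ
  have hd1 : d (trivChar G) = 1 := CfsgLib.CharDegree.charDegree_eq_of_apply_one (by simp [trivChar_apply])
  -- orthogonality
  have horth : ∀ (y : G), ¬ p ∣ orderOf y → ∑ χ ∈ B, (c χ : ℂ) * (χ : G → ℂ) y = 0 := by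
    intro y hy
    have h := sum_block_regular_singular hM (isPBlock_principalBlock (G := G)) hy hxd
    rw [finsum_mem_eq_finite_toFinset_sum _ (Set.toFinite _)] at h
    rw [← h]
    exact Finset.sum_congr rfl fun χ hχ => by rw [hc χ ((hmem χ).1 hχ) x hxd, mul_comm]
  have horth1 : 1 + ∑ χ ∈ B.erase (trivChar G), c χ * (d χ : ℤ) = 0 := by
    have h := horth 1 (by simp [hp.out.ne_one])
    simp only [apply_one_eq_charDegree] at h
    have h' : ∑ χ ∈ B, c χ * (d χ : ℤ) = 0 := by exact_mod_cast h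
    rw [← Finset.add_sum_erase _ _ htriv, hctriv, hd1] at h'
    simpa using h'
  set q : ℕ := (∑ χ ∈ B, c χ ^ 2).toNat with hqdef
  have hqZ : (q : ℤ) = 1 + ∑ χ ∈ B.erase (trivChar G), c χ ^ 2 := by
    rw [hqdef, Int.toNat_of_nonneg (Finset.sum_nonneg fun χ _ => sq_nonneg _),
      ← Finset.add_sum_erase _ _ htriv, hctriv, one_pow]
  have hcsq : ∀ χ ∈ B, c χ ^ 2 ≤ (Nat.card (P : Subgroup G) : ℤ) := by
    intro χ hχ
    rw [finsum_mem_eq_finite_toFinset_sum _ (Set.toFinite _)] at hq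
    have h1 := Finset.single_le_sum (f := fun χ : IrrCharacter G => ‖(χ : G → ℂ) x‖ ^ 2)
      (fun _ _ => by positivity) hχ
    have h2 := h1.trans hq
    simp only [hc χ ((hmem χ).1 hχ) x hxd, Complex.norm_intCast, sq_abs] at h2
    exact_mod_cast h2
  -- degrees
  have hdeg : ∀ χ ∈ B.erase (trivChar G), 0 < c χ → 3 * c χ ≤ (d χ : ℤ) := by
    intro χ hχ hcpos
    rw [Finset.mem_erase] at hχ
    obtain ⟨m, hm⟩ := CharAverage.exists_sum_eq (P : Subgroup G) (IsIrr.isCharacter χ.2)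
    have hsing : ∀ u : (P : Subgroup G), u ≠ 1 → (χ : G → ℂ) u = (c χ : ℂ) := fun u hu => by
      refine hc χ ((hmem χ).1 hχ.2) _ ?_
      obtain ⟨k, hk⟩ := IsPGroup.iff_orderOf.1 P.2 u
      rw [Subgroup.orderOf_coe, hk]
      exact dvd_pow_self p fun h => hu (orderOf_eq_one_iff.1 (by rw [hk, h, pow_zero]))
    rw [← Finset.add_sum_erase _ _ (Finset.mem_univ (1 : (P : Subgroup G))),
      Finset.sum_congr rfl (fun u hu => hsing u (Finset.ne_of_mem_erase hu)), Finset.sum_const,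
      Finset.card_erase_of_mem (Finset.mem_univ _), Finset.card_univ, ← Nat.card_eq_fintype_card,
      OneMemClass.coe_one, apply_one_eq_charDegree, nsmul_eq_mul, Nat.cast_sub Nat.card_pos] at hm
    have hZ : (d χ : ℤ) - c χ = (Nat.card (P : Subgroup G) : ℤ) * ((m : ℤ) - c χ) := by
      have : (((d χ : ℤ) - c χ : ℤ) : ℂ) = (((Nat.card (P : Subgroup G) : ℤ) * ((m : ℤ) - c χ) : ℤ) : ℂ) := by
        push_cast
        linear_combination hm
      exact_mod_cast this
    have hcd : c χ < (d χ : ℤ) := by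
      refine lt_of_le_of_ne ?_ fun e => ?_
      · have h := IsChar.norm_le (IsIrr.isCharacter χ.2) x
        rw [hc χ ((hmem χ).1 hχ.2) x hxd, apply_one_eq_charDegree, Complex.norm_intCast,
          Complex.norm_natCast] at h
        exact le_trans (le_abs_self _) (by exact_mod_cast h)
      · have hd1' : d χ ≠ 1 := fun h1 => hχ.1 (FewSylow.eq_trivChar hperf χ h1)
        have hx1 : x = 1 := ThreePrimeOrder.eq_one_of_apply_eq hd1' (by
          rw [hc χ ((hmem χ).1 hχ.2) x hxd, apply_one_eq_charDegree, e]; push_cast; rfl)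
        rw [hx1, orderOf_one] at hx
        exact hp.out.one_lt.ne hx
    have hmul : c χ + (Nat.card (P : Subgroup G) : ℤ) ≤ (d χ : ℤ) := by
      have hpos : 0 < (m : ℤ) - c χ := by
        by_contra hh
        push Not at hh
        have := mul_nonpos_of_nonneg_of_nonpos (Int.natCast_nonneg (Nat.card (P : Subgroup G))) hh
        omega
      have := le_mul_of_one_le_right (Int.natCast_nonneg (Nat.card (P : Subgroup G))) hpos
      omega
    have h2 := hcsq χ hχ.2
    rcases eq_or_lt_of_le (show (1 : ℤ) ≤ c χ from hcpos) with e | e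
    · omega
    · have : 2 * c χ ≤ c χ ^ 2 := by rw [pow_two]; exact mul_le_mul_of_nonneg_right e (by omega)
      omega
  -- the cubic relation
  set I := Finset.Icc 1 (p - 1) with hI
  set sing : Finset (ℕ × G) := (I ×ˢ (Finset.univ : Finset G)).filter
    fun w => p ∣ orderOf (x ^ w.1 * (w.2 * x * w.2⁻¹)) with hsingdef
  set reg : Finset (ℕ × G) := (I ×ˢ (Finset.univ : Finset G)).filter
    fun w => ¬ p ∣ orderOf (x ^ w.1 * (w.2 * x * w.2⁻¹)) with hregdef
  have hpow : ∀ k ∈ I, p ∣ orderOf (x ^ k) := fun k hk => by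
    rw [hI, Finset.mem_Icc] at hk
    rw [Nat.Coprime.orderOf_pow (by
      rw [hx]
      exact hp.out.coprime_iff_not_dvd.2 fun h => absurd (Nat.le_of_dvd (by omega) h) (by omega)), hx]
  have hident : ∀ χ ∈ B, ((p - 1 : ℕ) : ℂ) * (Nat.card G : ℂ) * (c χ : ℂ) ^ 2 / (d χ : ℂ) =
      (sing.card : ℂ) * (c χ : ℂ) + ∑ w ∈ reg, (χ : G → ℂ) (x ^ w.1 * (w.2 * x * w.2⁻¹)) := by
    intro χ hχ
    rw [← apply_one_eq_charDegree, ← sum_powers_identity χ
      (fun k hk => hc χ ((hmem χ).1 hχ) _ (hpow k hk)) (hc χ ((hmem χ).1 hχ) x hxd),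
      ← Finset.sum_product' (f := fun k g => (χ : G → ℂ) (x ^ k * (g * x * g⁻¹))),
      ← Finset.sum_filter_add_sum_filter_not _ (fun w : ℕ × G => p ∣ orderOf (x ^ w.1 * (w.2 * x * w.2⁻¹)))]
    congr 1
    rw [Finset.sum_congr rfl fun w hw => hc χ ((hmem χ).1 hχ) _ (Finset.mem_filter.1 hw).2,
      Finset.sum_const, nsmul_eq_mul]
  have hcub : ((p - 1 : ℕ) : ℂ) * (Nat.card G : ℂ) * ∑ χ ∈ B, (c χ : ℂ) ^ 3 / (d χ : ℂ) =
      (sing.card : ℂ) * ∑ χ ∈ B, (c χ : ℂ) ^ 2 := by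
    have h1 : ∀ χ ∈ B, ((p - 1 : ℕ) : ℂ) * (Nat.card G : ℂ) * ((c χ : ℂ) ^ 3 / (d χ : ℂ)) =
        (sing.card : ℂ) * (c χ : ℂ) ^ 2 +
          ∑ w ∈ reg, (c χ : ℂ) * (χ : G → ℂ) (x ^ w.1 * (w.2 * x * w.2⁻¹)) := by
      intro χ hχ
      rw [← Finset.mul_sum]
      linear_combination (c χ : ℂ) * hident χ hχ
    rw [Finset.mul_sum, Finset.sum_congr rfl h1, Finset.sum_add_distrib, ← Finset.mul_sum,
      Finset.sum_comm (s := B), Finset.sum_eq_zero (s := reg) fun w hw =>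
        horth _ (Finset.mem_filter.1 hw).2, add_zero]
  have hreg : reg.card ≤ Nat.card G := by
    rw [Nat.card_eq_fintype_card, ← Finset.card_univ]
    refine Finset.card_le_card_of_injOn Prod.snd (fun w _ => Finset.mem_univ _) ?_
    rintro ⟨k, g⟩ hk ⟨l, g'⟩ hl (rfl : g = g')
    simp only [hregdef, Finset.coe_filter, Set.mem_ofPred_eq, Finset.mem_product] at hk hl
    exact Prod.ext (hone g k l hk.1.1 hl.1.1 hk.2 hl.2) rfl
  have htot : sing.card + reg.card = (p - 1) * Nat.card G := by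
    rw [hsingdef, hregdef, Finset.card_filter_add_card_filter_not, Finset.card_product, hI, Nat.card_Icc,
      Finset.card_univ, Nat.card_eq_fintype_card, Nat.add_sub_cancel]
  have hge : ((p : ℝ) - 2) * q ≤
      ((p : ℝ) - 1) * (1 + ∑ χ ∈ B.erase (trivChar G), (c χ : ℝ) ^ 3 / d χ) := by
    have hR : ((p - 1 : ℕ) : ℝ) * (Nat.card G : ℝ) * ∑ χ ∈ B, (c χ : ℝ) ^ 3 / (d χ : ℝ) =
        (sing.card : ℝ) * ∑ χ ∈ B, (c χ : ℝ) ^ 2 := by
      apply Complex.ofReal_injective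
      push_cast
      exact hcub
    rw [← Finset.add_sum_erase _ (fun χ => (c χ : ℝ) ^ 3 / (d χ : ℝ)) htriv, hctriv, hd1] at hR
    have hqR : (q : ℝ) = ∑ χ ∈ B, (c χ : ℝ) ^ 2 := by
      have : (q : ℤ) = ∑ χ ∈ B, c χ ^ 2 := Int.toNat_of_nonneg (Finset.sum_nonneg fun χ _ => sq_nonneg _)
      exact_mod_cast this
    rw [← hqR] at hR
    have hN : (0 : ℝ) < Nat.card G := by exact_mod_cast Nat.card_pos
    have hs : ((p : ℝ) - 2) * Nat.card G ≤ sing.card := by
      have h1 : (p - 2) * Nat.card G ≤ sing.card := by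
        rw [show p - 1 = p - 2 + 1 by omega, Nat.add_mul, one_mul] at htot
        omega
      have h2 : (((p - 2) * Nat.card G : ℕ) : ℝ) ≤ sing.card := by exact_mod_cast h1
      rwa [Nat.cast_mul, Nat.cast_sub (by omega)] at h2
    rw [Nat.cast_sub (by omega : 1 ≤ p)] at hR
    push_cast at hR
    norm_num at hR
    refine le_of_mul_le_mul_right ?_ hN
    calc ((p : ℝ) - 2) * q * Nat.card G = ((p : ℝ) - 2) * Nat.card G * q := by ring
      _ ≤ (sing.card : ℝ) * q := mul_le_mul_of_nonneg_right hs (Nat.cast_nonneg q)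
      _ = _ := by rw [← hR, Nat.card_eq_fintype_card]; ring
  exact false_of_cubic (B.erase (trivChar G)) c d p q hp3 (fun χ _ => hdpos χ) hdeg horth1 hqZ hge

end CfsgLib.PGroups.PairProd
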