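import Cfsg.Agent.Lib.PGroups.PairProd.CyclicSimple
import Cfsg.Agent.Lib.PGroups.AutomizerHall
import Cfsg.Agent.Lib.Components.CyclicSylowSimple
import Cfsg.Agent.Lib.CharDegree.SmallDegrees.Reduction

/-!
# A criterion for `p`-solvability with cyclic Sylow subgroups
-/

set_option autoImplicit false

namespace CfsgLib.PGroups.PairProd

open Subgroup Cfsg CfsgLib.Core

universe u

variable {p : ℕ} [hp : Fact p.Prime]

/-- A group of order prime to `p`, or a `p`-group, is `p`-solvable. -/
theorem isPSolvable_top {G : Type u} [Group G] [Finite G] (H : Subgroup G) [H.Normal]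
    (hH : IsPGroup p H) (hidx : ¬ p ∣ H.index) : IsPSolvable p G := by
  refine PGroups.Automizer.isPSolvable_of_sandwich H ⊤ le_top hH (by rwa [relIndex_top_right]) ?_
  refine ⟨0, fun _ => ⊥, rfl, ?_, monotone_const, fun _ => inferInstance, fun i => i.elim0⟩
  have : Subsingleton (G ⧸ (⊤ : Subgroup G)) := QuotientGroup.subsingleton_quotient_top
  exact Subsingleton.elim _ _

theorem isPSolvable_of_pairs_aux : ∀ (n : ℕ) (G : Type u) [Group G] [Finite G], Nat.card G = n →
    (∀ R : Subgroup G, IsPGroup p R → IsCyclic R) →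
    (∀ x y : G, orderOf x = p → orderOf y = p → IsPSolvable p (closure ({x, y} : Set G))) →
    IsPSolvable p G := by
  intro n
  induction n using Nat.strong_induction_on with
  | _ n ih =>
  intro G _ _ hn hcyc hpair
  by_cases hdvd : p ∣ Nat.card G
  swap
  · exact isPSolvable_top ⊥ IsPGroup.of_bot (by rwa [index_bot])
  obtain ⟨P⟩ : Nonempty (Sylow p G) := inferInstance
  have hPc : IsCyclic (P : Subgroup G) := hcyc _ P.2
  have hPne : (P : Subgroup G) ≠ ⊥ := P.ne_bot_of_dvd_card hdvd
  -- quotients by normal `p'`-subgroups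
  have hquot : ∀ N : Subgroup G, N.Normal → N ≠ ⊥ → ¬ p ∣ Nat.card N → IsPSolvable p G := by
    intro N hN hN1 hNp
    refine PGroups.Automizer.isPSolvable_of_sandwich ⊥ N bot_le IsPGroup.of_bot
      (by rwa [relIndex_bot_left]) ?_
    refine ih _ ?_ (G ⧸ N) rfl ?_ ?_
    · have h := card_eq_card_quotient_mul_card_subgroup N
      have h2 := (one_lt_card_iff_ne_bot N).2 hN1
      have h3 : 0 < Nat.card (G ⧸ N) := Nat.card_pos
      rw [← hn, h]
      exact lt_mul_of_one_lt_right h3 h2
    · intro R hR
      obtain ⟨S, hS⟩ := hR.exists_le_sylow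
      set T := P.mapSurjective (f := QuotientGroup.mk' N) (QuotientGroup.mk'_surjective N) with hT
      obtain ⟨g, hg⟩ := MulAction.exists_smul_eq (G ⧸ N) T S
      have hTc : IsCyclic (T : Subgroup (G ⧸ N)) :=
        isCyclic_of_surjective ((QuotientGroup.mk' N).subgroupMap (P : Subgroup G))
          ((QuotientGroup.mk' N).subgroupMap_surjective _)
      have hSc : IsCyclic (S : Subgroup (G ⧸ N)) := by
        rw [← hg]
        exact isCyclic_of_surjective (T.equivSMul g).toMonoidHom (T.equivSMul g).surjective
      exact isCyclic_of_injective (Subgroup.inclusion hS) (Subgroup.inclusion_injective hS)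
    · have hlift : ∀ u : G ⧸ N, orderOf u = p → ∃ v : G, orderOf v = p ∧ QuotientGroup.mk' N v = u := by
        intro u hu
        obtain ⟨g, rfl⟩ := QuotientGroup.mk'_surjective N u
        obtain ⟨m, hm⟩ : ∃ m : ℕ, Nat.card N * m ≡ 1 [MOD p] := by
          obtain ⟨m, hm⟩ := Nat.exists_mul_mod_eq_one_of_coprime
            ((hp.out.coprime_iff_not_dvd.2 hNp).symm) hp.out.one_lt
          exact ⟨m, by rw [Nat.ModEq, hm.2, Nat.one_mod_eq_one.2 hp.out.ne_one]⟩
        have himg : QuotientGroup.mk' N (g ^ (Nat.card N * m)) = QuotientGroup.mk' N g := by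
          rw [map_pow]
          conv_rhs => rw [← pow_one (QuotientGroup.mk' N g)]
          rw [pow_eq_pow_iff_modEq, hu]
          exact hm
        refine ⟨g ^ (Nat.card N * m), orderOf_eq_prime ?_ fun h1 => ?_, himg⟩
        · have hgp : g ^ p ∈ N := by
            rw [← QuotientGroup.ker_mk' N, MonoidHom.mem_ker, map_pow, ← hu, pow_orderOf_eq_one]
          have h2 : (⟨g ^ p, hgp⟩ : N) ^ Nat.card N = 1 := pow_card_eq_one'
          have h3 : (g ^ p) ^ Nat.card N = 1 := congrArg Subtype.val h2
          rw [← pow_mul, show Nat.card N * m * p = p * Nat.card N * m by ring, pow_mul, pow_mul, h3,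
            one_pow]
        · rw [h1, map_one] at himg
          rw [← himg, orderOf_one] at hu
          exact hp.out.one_lt.ne hu
      intro x y hx hy
      obtain ⟨x', hx', rfl⟩ := hlift x hx
      obtain ⟨y', hy', rfl⟩ := hlift y hy
      have hmap : (closure ({x', y'} : Set G)).map (QuotientGroup.mk' N) =
          closure ({QuotientGroup.mk' N x', QuotientGroup.mk' N y'} : Set (G ⧸ N)) := by
        rw [MonoidHom.map_closure, Set.image_pair]
      rw [← hmap]
      exact CfsgLib.PLocal.isPSolvable_of_surjective
        ((QuotientGroup.mk' N).subgroupMap (closure ({x', y'} : Set G)))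
        ((QuotientGroup.mk' N).subgroupMap_surjective _) (hpair x' y' hx' hy')
  by_cases hsimple : ∃ N : Subgroup G, N.Normal ∧ N ≠ ⊥ ∧ N ≠ ⊤
  · obtain ⟨N, hN, hN1, hN2⟩ := hsimple
    by_cases hNp : p ∣ Nat.card N
    swap
    · exact hquot N hN hN1 hNp
    have hNsol : IsPSolvable p N := by
      refine ih _ ?_ N rfl (fun R hR => ?_) fun x y hx hy => ?_
      · rw [← hn]
        refine lt_of_le_of_ne (card_le_card_group N) fun h => hN2 ((card_eq_iff_eq_top N).1 h)
      · have := hcyc (R.map N.subtype) (hR.map _)
        exact isCyclic_of_surjective (R.equivMapOfInjective N.subtype N.subtype_injective).symm.toMonoidHom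
          (MulEquiv.surjective _)
      · have hmap : (closure ({x, y} : Set N)).map N.subtype = closure ({(x : G), (y : G)} : Set G) := by
          rw [MonoidHom.map_closure, Set.image_pair]
          rfl
        have h := hpair x y (by rw [orderOf_coe, hx]) (by rw [orderOf_coe, hy])
        rw [← hmap] at h
        exact CfsgLib.PLocal.isPSolvable_congr
          ((closure ({x, y} : Set N)).equivMapOfInjective N.subtype N.subtype_injective).symm h
    by_cases hO : pPrimeCore p G = ⊥
    swap
    · exact hquot _ inferInstance hO (hp.out.coprime_iff_not_dvd.1 (coprime_card_pPrimeCore p G).symm)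
    have hON : pPrimeCore p N = ⊥ := by
      have : ((pPrimeCore p N).map N.subtype).Normal := inferInstance
      have hle := le_pPrimeCore (p := p) (N := (pPrimeCore p N).map N.subtype) (by
        rw [card_map_of_injective N.subtype_injective]; exact coprime_card_pPrimeCore p N)
      rw [hO, le_bot_iff, map_eq_bot_iff_of_injective _ N.subtype_injective] at hle
      exact hle
    have hQ1 : pCore p N ≠ ⊥ := by
      intro h
      have hc := CfsgLib.PLocal.centralizer_pCore_le hNsol hON
      rw [h] at hc
      refine hN1 ?_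
      have htop : (⊤ : Subgroup N) ≤ ⊥ := le_trans (fun u _ => mem_centralizer_iff.2 fun v hv => by
        rw [coe_bot, Set.mem_singleton_iff] at hv; rw [hv, one_mul, mul_one]) hc
      rw [eq_bot_iff]
      intro u hu
      have := htop (mem_top (⟨u, hu⟩ : N))
      rw [mem_bot] at this ⊢
      exact congrArg Subtype.val this
    set Q := (pCore p N).map N.subtype with hQ
    have hQn : Q.Normal := inferInstance
    have hQp : IsPGroup p Q := (isPGroup_pCore p N).map _
    have hQne : Q ≠ ⊥ := by rwa [hQ, Ne, map_eq_bot_iff_of_injective _ N.subtype_injective]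
    have hQP : Q ≤ (P : Subgroup G) := by
      obtain ⟨S, hS⟩ := hQp.exists_le_sylow
      obtain ⟨g, hg⟩ := MulAction.exists_smul_eq G S P
      intro u hu
      rw [← hg, Sylow.coe_subgroup_smul, mem_smul_pointwise_iff_exists]
      refine ⟨g⁻¹ * u * g, hS ?_, by simp [mul_assoc]⟩
      simpa using hQn.conj_mem u hu g⁻¹
    obtain ⟨x', hx'⟩ := exists_prime_orderOf_dvd_card' (G := Q) p (by
      obtain ⟨k, hk⟩ := IsPGroup.iff_card.1 hQp
      rw [hk]
      refine dvd_pow_self p fun h0 => hQne ?_
      rw [h0, pow_zero] at hk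
      exact eq_bot_of_card_eq Q hk)
    set x : G := (x' : G) with hxdef
    have hx : orderOf x = p := by rw [hxdef, orderOf_coe, hx']
    have hxP : x ∈ (P : Subgroup G) := hQP x'.2
    have huniq : ∀ w ∈ (P : Subgroup G), orderOf w = p → w ∈ zpowers x := by
      intro w hw hwo
      have h := CfsgLib.Orders.ConjAll.unique_of_cyclic P hPc (zpowers ⟨x, hxP⟩) (zpowers ⟨w, hw⟩)
        (by rw [Nat.card_zpowers, Subgroup.orderOf_mk, hx])
        (by rw [Nat.card_zpowers, Subgroup.orderOf_mk, hwo])
      obtain ⟨i, hi⟩ := mem_zpowers_iff.1 (h.symm ▸ mem_zpowers (⟨w, hw⟩ : (P : Subgroup G)))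
      exact mem_zpowers_iff.2 ⟨i, congrArg Subtype.val hi⟩
    set C := centralizer ((zpowers x : Subgroup G) : Set G) with hCdef
    have hAn : (zpowers x).Normal := by
      refine ⟨fun v hv g => ?_⟩
      obtain ⟨i, rfl⟩ := mem_zpowers_iff.1 hv
      rw [← conj_zpow]
      refine zpow_mem (huniq _ (hQP (hQn.conj_mem x x'.2 g)) ?_) i
      rw [show g * x * g⁻¹ = MulAut.conj g x from rfl, MulEquiv.orderOf_eq, hx]
    have hCn : C.Normal := inferInstance
    have hPC : (P : Subgroup G) ≤ C := fun u hu => by
      refine mem_centralizer_iff.2 fun v hv => ?_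
      obtain ⟨i, rfl⟩ := mem_zpowers_iff.1 hv
      let := IsCyclic.commGroup (α := (P : Subgroup G))
      exact (Commute.zpow_left (congrArg Subtype.val
        (mul_comm (⟨x, hxP⟩ : (P : Subgroup G)) ⟨u, hu⟩) : x * u = u * x) i).eq
    set SC : Sylow p C := P.subtype hPC with hSC
    have hSCc : (SC : Subgroup C) = (P : Subgroup G).subgroupOf C := rfl
    have hNC : normalizer ((SC : Subgroup C) : Set C) ≤ centralizer ((SC : Subgroup C) : Set C) := by
      intro g hg
      have hgN : (g : G) ∈ normalizer ((P : Subgroup G) : Set G) := by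
        refine mem_normalizer_iff.2 fun u => ⟨fun hu => ?_, fun hu => ?_⟩
        · exact ((mem_normalizer_iff.1 hg ⟨u, hPC hu⟩).1 (by rw [hSCc]; exact hu) :)
        · have hu' : u ∈ C := by
            have h1 := mul_mem (mul_mem (inv_mem g.2) (hPC hu)) g.2
            rwa [show (g : G)⁻¹ * ((g : G) * u * (g : G)⁻¹) * (g : G) = u by group] at h1
          exact ((mem_normalizer_iff.1 hg ⟨u, hu'⟩).2 (by rw [hSCc]; exact hu) :)
      have := hPc
      have hgC := CfsgLib.Components.mem_centralizer_of_fix P hgN fun w hw hwo =>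
        (mem_centralizer_iff.1 g.2 w (huniq w hw hwo)).symm
      refine mem_centralizer_iff.2 fun v hv => Subtype.ext ?_
      exact mem_centralizer_iff.1 hgC (v : G) (by rw [hSCc] at hv; exact hv)
    have hK := MonoidHom.ker_transferSylow_isComplement' SC hNC
    set K := (MonoidHom.transferSylow SC hNC).ker with hKdef
    have hKp : ¬ p ∣ Nat.card K := by
      rw [← hK.index_eq_card]
      exact SC.not_dvd_index
    have hKle : K ≤ pPrimeCore p C := le_pPrimeCore ((hp.out.coprime_iff_not_dvd.2 hKp).symm)
    have hOC : pPrimeCore p C = ⊥ := by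
      have : ((pPrimeCore p C).map C.subtype).Normal := inferInstance
      have hle := le_pPrimeCore (p := p) (N := (pPrimeCore p C).map C.subtype) (by
        rw [card_map_of_injective C.subtype_injective]; exact coprime_card_pPrimeCore p C)
      rw [hO, le_bot_iff, map_eq_bot_iff_of_injective _ C.subtype_injective] at hle
      exact hle
    rw [hOC, le_bot_iff] at hKle
    rw [hKle, isComplement'_bot_left] at hK
    have hCP : C ≤ (P : Subgroup G) := fun u hu => by
      have : (⟨u, hu⟩ : C) ∈ (SC : Subgroup C) := hK ▸ mem_top _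
      rwa [hSCc] at this
    refine isPSolvable_top C (P.2.to_le hCP) ?_
    rw [le_antisymm hCP hPC]
    exact P.not_dvd_index
  -- simple groups
  have : Nontrivial G := Finite.one_lt_card_iff_nontrivial.1
    (lt_of_lt_of_le hp.out.one_lt (Nat.le_of_dvd Nat.card_pos hdvd))
  have hS : IsSimpleGroup G := ⟨fun H hH => by
    by_contra h
    push Not at h
    exact hsimple ⟨H, hH, h.1, h.2⟩⟩
  by_cases hG : IsMulCommutative G
  · have hPn : (P : Subgroup G).Normal := ⟨fun u hu g => by
      rwa [mul_comm' g u, mul_inv_cancel_right]⟩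
    exact isPSolvable_top (P : Subgroup G) P.2 P.not_dvd_index
  exfalso
  rcases eq_or_ne p 2 with h2 | h2
  · have hmin : (Nat.card G).minFac = p := by
      rw [h2] at hdvd ⊢
      exact (Nat.minFac_eq_two_iff _).2 hdvd
    have := hPc
    have hle := IsCyclic.normalizer_le_centralizer hmin hPc
    have hc := MonoidHom.ker_transferSylow_isComplement' P hle
    rcases (inferInstance : (MonoidHom.transferSylow P hle).ker.Normal).eq_bot_or_eq_top with hk | hk
    · rw [hk, isComplement'_bot_left] at hc
      refine hG ⟨⟨fun u v => ?_⟩⟩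
      let := IsCyclic.commGroup (α := (P : Subgroup G))
      exact congrArg Subtype.val (mul_comm (⟨u, by rw [hc]; trivial⟩ : (P : Subgroup G))
        ⟨v, by rw [hc]; trivial⟩)
    · rw [hk, isComplement'_top_left] at hc
      exact hPne hc
  · exact false_of_cyclic hG (by have := hp.out.two_le; omega) hdvd P hPc hpair

/-- A group with cyclic Sylow `p`-subgroups is `p`-solvable iff any two elements of order `p` generate a
`p`-solvable subgroup. -/
theorem isPSolvable_iff_pairs {G : Type u} [Group G] [Finite G] (P : Sylow p G)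
    (hP : IsCyclic (P : Subgroup G)) :
    IsPSolvable p G ↔
      ∀ x y : G, orderOf x = p → orderOf y = p → IsPSolvable p (closure ({x, y} : Set G)) := by
  refine ⟨fun h x y _ _ => CfsgLib.PLocal.isPSolvable_subgroup h _, fun h =>
    isPSolvable_of_pairs_aux _ G rfl (fun R hR => ?_) h⟩
  obtain ⟨S, hS⟩ := hR.exists_le_sylow
  obtain ⟨g, hg⟩ := MulAction.exists_smul_eq G P S
  have hSc : IsCyclic (S : Subgroup G) := by
    rw [← hg]
    exact isCyclic_of_surjective (P.equivSMul g).toMonoidHom (P.equivSMul g).surjective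
  exact isCyclic_of_injective (Subgroup.inclusion hS) (Subgroup.inclusion_injective hS)

end CfsgLib.PGroups.PairProd
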