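import Cfsg.Agent.Lib.PGroups.PairProd.Block
import Cfsg.Agent.Lib.Char.Rationality
import Cfsg.Agent.Lib.ZStar.PrincipalBlock

/-!
# Integral values and values on sections

A character takes an integral value at an element conjugate to all generators of its cyclic group,
and a principal block character is constant on the section of an element with `p`-nilpotent
centralizer.
-/

set_option autoImplicit false

namespace CfsgLib.PGroups.PairProd

open Cfsg CfsgLib.Char CfsgLib.Blocks

variable {G : Type*} [Group G] [Finite G]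

/-- An element conjugate to all generators of its cyclic group has integral character values. -/
theorem exists_int_of_isConj (χ : IrrCharacter G) {g : G}
    (h : ∀ m : ℕ, m.Coprime (Nat.card G) → IsConj g (g ^ m)) :
    ∃ n : ℤ, (χ : G → ℂ) g = n := by
  obtain ⟨χ, hχ⟩ := χ
  have hcl := IsIrr.isClassFunction hχ
  obtain ⟨n, ρ, -, rfl⟩ := hχ
  obtain ⟨q, hq⟩ := CharRational.exists_rat_of_apply_pow_eq ρ g fun m hm => by
    obtain ⟨c, hc⟩ := isConj_iff.1 (h m hm)
    rw [← hc]
    exact hcl g c
  have hint := CharIntegral.isIntegral_of_isCharacter ⟨n, ρ, rfl⟩ g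
  rw [hq] at hint
  have h2 : IsIntegral ℤ q :=
    (isIntegral_algHom_iff ((Algebra.ofId ℚ ℂ).restrictScalars ℤ)
      (algebraMap ℚ ℂ).injective).mp hint
  obtain ⟨z, hz⟩ := IsIntegrallyClosed.isIntegral_iff.mp h2
  exact ⟨z, hq.trans (by rw [← hz]; simp)⟩

variable [Fintype G] {p : ℕ} [hp : Fact p.Prime] {M : Ideal AlgInt} [M.IsPrime]

/-- A principal block character is constant on the section of an element with `p`-nilpotent
centralizer. -/
theorem apply_mul_eq_of_hasNormalPComplement (hM : IsPModular p M) {χ : IrrCharacter G}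
    (hχ : χ ∈ principalBlock M G) {u s : G} (hu : ∃ k : ℕ, orderOf u = p ^ k) (hc : Commute u s)
    (hs : ¬ p ∣ orderOf s)
    (hC : HasNormalPComplement p (Subgroup.centralizer ({u} : Set G))) :
    (χ : G → ℂ) (u * s) = (χ : G → ℂ) u := by
  set C := Subgroup.centralizer ({u} : Set G) with hCdef
  have := Fintype.ofFinite C
  obtain ⟨S, N, hN, hNS⟩ := hC
  have := hN
  let v : C := ⟨s, Subgroup.mem_centralizer_singleton_iff.mpr hc.eq.symm⟩
  have hNp : ¬ p ∣ Nat.card N := by
    rw [← hNS.index_eq_card]
    exact S.not_dvd_index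
  refine apply_mul_eq_of_mem_principalBlock hM hu hχ (N := N) hNp (v := v) ?_
  obtain ⟨k, hk⟩ := IsPGroup.iff_card.1 S.2
  have hidx : N.index = p ^ k := by rw [← hk]; exact hNS.symm.index_eq_card
  rw [← QuotientGroup.ker_mk' N, MonoidHom.mem_ker, ← orderOf_eq_one_iff]
  have h1 : orderOf (QuotientGroup.mk' N v) ∣ p ^ k := by
    rw [← hidx, Subgroup.index_eq_card]
    exact orderOf_dvd_natCard _
  have h2 : orderOf (QuotientGroup.mk' N v) ∣ orderOf s := by
    refine (orderOf_map_dvd _ v).trans ?_
    rw [← Subgroup.orderOf_coe]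
  exact Nat.eq_one_of_dvd_coprimes ((hp.out.coprime_iff_not_dvd.2 hs).pow_left k) h1 h2

end CfsgLib.PGroups.PairProd
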