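import Cfsg.Agent.Lib.PGroups.PairProd.CyclicValues
import Cfsg.Agent.Lib.PGroups.PairProd.Values
import Cfsg.Agent.Lib.Blocks.Cyclic.CoreExists
import Cfsg.Agent.Lib.Blocks.Cyclic.LowerBound
import Cfsg.Agent.Lib.Pairs.Principal
import Cfsg.Agent.Lib.Orders.ConjugateAll

/-!
# Simple groups with cyclic Sylow subgroups

Some two elements of odd prime order `p` generate a subgroup which is not `p`-solvable, when the
Sylow `p`-subgroup is cyclic.
-/

set_option autoImplicit false

namespace CfsgLib.PGroups.PairProd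

open Cfsg CfsgLib.Char CfsgLib.Blocks CfsgLib.Perm

/-- The arithmetic of two roots. -/
theorem false_of_two_roots (p a q d e : ℕ) (c₁ c₂ : ℤ) (hp : 3 ≤ p) (ha : q = p ^ a) (ha0 : 0 < a)
    (he : e ∣ p - 1) (hlt : c₁ < c₂) (hneg : c₁ < 0) (hd1 : (p : ℤ) ∣ (d : ℤ) - c₂) (hc2 : c₂ < d)
    (hsum : ((p : ℤ) - 2) * d ≤ ((p : ℤ) - 1) * (c₁ + c₂))
    (hsq : c₂ ^ 2 < q) (hq : (q : ℤ) ∣ (d : ℤ) - e ∨ (q : ℤ) ∣ (d : ℤ) + e) : False := by
  have hpZ : (3 : ℤ) ≤ p := by exact_mod_cast hp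
  have hdp : c₂ + p ≤ d := by
    have := Int.le_of_dvd (by omega) hd1
    omega
  have h1 : ((p : ℤ) - 1) * (c₁ + c₂) ≤ ((p : ℤ) - 1) * (c₂ - 1) :=
    mul_le_mul_of_nonneg_left (by omega) (by omega)
  have h2 : ((p : ℤ) - 1) * c₂ ≤ ((p : ℤ) - 1) * ((d : ℤ) - p) :=
    mul_le_mul_of_nonneg_left (by omega) (by omega)
  have hdbig : (p : ℤ) ^ 2 - 1 ≤ d := by nlinarith
  have hhalf : (d : ℤ) + 2 ≤ 2 * c₂ := by
    have h3 : 0 ≤ ((p : ℤ) - 3) * d := mul_nonneg (by omega) (Int.natCast_nonneg _)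
    by_contra h
    push Not at h
    have := mul_le_mul_of_nonneg_left (show 2 * c₂ ≤ (d : ℤ) + 1 by omega)
      (show (0 : ℤ) ≤ (p : ℤ) - 1 by omega)
    nlinarith
  have hd4 : (d : ℤ) ^ 2 < 4 * q := by nlinarith [Int.natCast_nonneg d]
  have he' : (e : ℤ) ≤ (p : ℤ) - 1 := by
    have := Nat.le_of_dvd (by omega) he
    omega
  have hqp : (p : ℤ) ≤ q := by
    rw [ha]
    exact_mod_cast Nat.le_self_pow ha0.ne' p
  have hde : (q : ℤ) - e ≤ d := by
    have hpp : (p : ℤ) * 2 ≤ (p : ℤ) ^ 2 := by nlinarith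
    rcases hq with h | h
    · have := Int.le_of_dvd (by omega) h
      omega
    · have := Int.le_of_dvd (by omega) h
      omega
  rcases Nat.lt_or_ge a 2 with h | h
  · have : q = p := by rw [ha, show a = 1 by omega, pow_one]
    subst this
    nlinarith
  · have hq2 : (p : ℤ) ^ 2 ≤ q := by rw [ha]; exact_mod_cast Nat.pow_le_pow_right (by omega) h
    have h3 : 3 * (p : ℤ) ≤ q := by nlinarith
    nlinarith

variable {G : Type*} [Group G] [Finite G] {p : ℕ} [hp : Fact p.Prime]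

/-- An element of prime order conjugate to all its nontrivial powers has integral values. -/
theorem exists_int_of_all_powers {x : G} (hx : orderOf x = p)
    (h : ∀ k ∈ Finset.Icc 1 (p - 1), IsConj x (x ^ k)) (χ : IrrCharacter G) :
    ∃ n : ℤ, (χ : G → ℂ) x = n :=
  exists_int_of_isConj χ fun m hm => by
    rw [← pow_mod_orderOf x m, hx]
    refine h _ (Finset.mem_Icc.2 ⟨Nat.one_le_iff_ne_zero.2 fun h0 => ?_, ?_⟩)
    · exact hp.out.coprime_iff_not_dvd.1
        ((hm.coprime_dvd_right (hx ▸ orderOf_dvd_natCard x)).symm) (Nat.dvd_of_mod_eq_zero h0)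
    · have := Nat.mod_lt m hp.out.pos
      omega

theorem false_of_cyclic [IsSimpleGroup G] (hG : ¬ IsMulCommutative G) (hp3 : 3 ≤ p)
    (hdvd : p ∣ Nat.card G) (P : Sylow p G) (hPc : IsCyclic (P : Subgroup G))
    (hpair : ∀ x y : G, orderOf x = p → orderOf y = p →
      IsPSolvable p (Subgroup.closure ({x, y} : Set G))) : False := by
  classical
  have := Fintype.ofFinite G
  have := Fintype.ofFinite (IrrCharacter G)
  have hperf := ThreePrimeOrder.perfect_of_nc hG
  obtain ⟨M, hM⟩ := CfsgLib.ZStar.exists_isPModular hp.out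
  have := hM.2.1.isPrime
  have hPne : (P : Subgroup G) ≠ ⊥ := P.ne_bot_of_dvd_card hdvd
  have hPcomm : ∀ u ∈ (P : Subgroup G), ∀ v ∈ (P : Subgroup G), u * v = v * u := by
    intro u hu v hv
    let := IsCyclic.commGroup (α := (P : Subgroup G))
    exact congrArg Subtype.val (mul_comm (⟨u, hu⟩ : (P : Subgroup G)) ⟨v, hv⟩)
  have hPC : (P : Subgroup G) ≤ Subgroup.centralizer ((P : Subgroup G) : Set G) := fun u hu =>
    Subgroup.mem_centralizer_iff.2 fun v hv => hPcomm v hv u hu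
  set c := principalBlock M (Subgroup.centralizer ((P : Subgroup G) : Set G)) with hcdef
  have hBr := CfsgLib.Pairs.isBrauerPairOf_principal (G := G) hM P.2
  have hBrc : IsPBlock M c := isPBlock_principalBlock
  have S : Cyclic.Setup p M (principalBlock M G) (P : Subgroup G) c :=
    ⟨hM, isPBlock_principalBlock, (CfsgLib.Pairs.isDefectGroup_principal_iff hM _).2 ⟨P, rfl⟩, hPne,
      hPc, (CfsgLib.Pairs.inducedFromCent_iff hM P.2 hPC hBrc _).2 hBr⟩
  obtain ⟨a, hcard⟩ := IsPGroup.iff_card.1 P.2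
  obtain ⟨Z, f, L⟩ := S.exists_local
  obtain ⟨t, cf, K⟩ := L.exists_core hcard
  set e := (Subgroup.centralizer ((P : Subgroup G) : Set G)).relIndex
    (CfsgLib.Pairs.pairStab (P : Subgroup G) c) with hedef
  obtain ⟨θ, δ, δ₀, hθ, hθB, hδ₀, hδ, hcardB, -, hcθ, hcX⟩ :=
    K.exists_structure hM isPBlock_principalBlock S.le_blockRank
  have hNP : Subgroup.normalizer ((P : Subgroup G) : Set G) ≤
      CfsgLib.Pairs.pairStab (P : Subgroup G) c := fun g hg =>
    ⟨hg, CfsgLib.Pairs.stabilizesBlock_principal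
      (CfsgLib.Pairs.normalizer_le_normalizer_centralizer _ hg)⟩
  obtain ⟨hedvd, hfree⟩ := S.free
  rw [← hedef] at hedvd
  have he2 : 2 ≤ e := by
    by_contra h
    have he1 : e = 1 := by have := K.e_pos; omega
    have hle : Subgroup.normalizer ((P : Subgroup G) : Set G) ≤
        Subgroup.centralizer ((P : Subgroup G) : Set G) :=
      hNP.trans (Subgroup.relIndex_eq_one.1 (hedef ▸ he1))
    have hc := MonoidHom.ker_transferSylow_isComplement' P hle
    rcases (inferInstance : (MonoidHom.transferSylow P hle).ker.Normal).eq_bot_or_eq_top with hk | hk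
    · rw [hk, Subgroup.isComplement'_bot_left] at hc
      refine hG ⟨⟨fun u v => hPcomm u ?_ v ?_⟩⟩ <;> · rw [hc]; trivial
    · rw [hk, Subgroup.isComplement'_top_left] at hc
      exact hPne hc
  obtain ⟨y, hy⟩ := exists_prime_orderOf_dvd_card' (G := (P : Subgroup G)) p (by
    rw [hcard]; exact dvd_pow_self p K.a_pos.ne')
  set x : G := (y : G) with hxdef
  have hx : orderOf x = p := by rw [hxdef, Subgroup.orderOf_coe, hy]
  have hxP : x ∈ (P : Subgroup G) := y.2
  have hxd : p ∣ orderOf x := by rw [hx]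
  have hab : ∀ R : Subgroup G, IsPGroup p R → ∀ u ∈ R, ∀ v ∈ R, u * v = v * u := by
    intro R hR u hu v hv
    obtain ⟨Q, hQ⟩ := hR.exists_le_sylow
    obtain ⟨g, hg⟩ := MulAction.exists_smul_eq G Q P
    have hm : ∀ w ∈ R, g * w * g⁻¹ ∈ (P : Subgroup G) := fun w hw => by
      rw [← hg, Sylow.coe_subgroup_smul, Subgroup.mem_smul_pointwise_iff_exists]
      exact ⟨w, hQ hw, rfl⟩
    simpa using hPcomm _ (hm u hu) _ (hm v hv)
  -- the trivial character
  have htriv : trivChar G ∈ principalBlock M G := trivChar_mem_principalBlock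
  set W : G → ℂ := fun g => (∑ j, Cyclic.gam (cf j) g) / (p : ℂ) ^ a with hW
  have hoff : ∀ χ ∈ principalBlock M G, (∀ j, θ j ≠ χ) → ∀ g : G, p ∣ orderOf g →
      (χ : G → ℂ) g = (δ χ : ℂ) * W g := fun χ hχ hne g hg => apply_of_ne K hcX hχ hne hg
  have hsumθ : ∀ g : G, p ∣ orderOf g → ∑ i, (θ i : G → ℂ) g = (δ₀ : ℂ) * W g :=
    fun g hg => sum_exceptional K hθB hcθ hg
  have hδ₀ne : δ₀ ≠ 0 := by rcases hδ₀ with h | h <;> rw [h] <;> norm_num
  have hnot : 2 ≤ t → ∀ j, θ j ≠ trivChar G := by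
    intro ht i hi
    obtain ⟨j, hij⟩ : ∃ j, j ≠ i := by
      by_contra h
      push Not at h
      exact absurd (congrArg Fin.val ((h ⟨0, by omega⟩).trans (h ⟨1, by omega⟩).symm)) (by simp)
    have h := exceptional_regular K hθ hcθ hδ₀ne hcX i j (g := (1 : G)) (by simpa using hp.out.ne_one)
    rw [hi, trivChar_apply] at h
    exact hij (hθ ((FewSylow.eq_trivChar hperf _
      (CfsgLib.CharDegree.charDegree_eq_of_apply_one (by rw [← h]; simp))).trans hi.symm))
  obtain ⟨ε, hε, hWε⟩ : ∃ ε : ℤ, (ε = 1 ∨ ε = -1) ∧ ∀ g : G, p ∣ orderOf g → W g = (ε : ℂ) := by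
    by_cases hT : ∀ j, θ j ≠ trivChar G
    · refine ⟨δ (trivChar G), hδ _, fun g hg => ?_⟩
      have h := hoff _ htriv hT g hg
      rw [trivChar_apply] at h
      rcases hδ (trivChar G) with h' | h' <;> rw [h'] at h ⊢ <;> push_cast at h ⊢ <;> first | linear_combination (-1 : ℂ) * h | linear_combination (1 : ℂ) * h
    · have ht : t = 1 := by
        by_contra h
        exact hT (hnot (by have := K.t_pos; omega))
      push Not at hT
      obtain ⟨j, hj⟩ := hT
      refine ⟨δ₀, hδ₀, fun g hg => ?_⟩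
      have h := hsumθ g hg
      subst ht
      rw [Fin.sum_univ_one, Subsingleton.elim (0 : Fin 1) j, hj, trivChar_apply] at h
      rcases hδ₀ with h' | h' <;> rw [h'] at h ⊢ <;> push_cast at h ⊢ <;> first | linear_combination (-1 : ℂ) * h | linear_combination (1 : ℂ) * h
  have hε2 : ε * ε = 1 := by rcases hε with h | h <;> rw [h] <;> norm_num
  have hpow : ∀ k ∈ Finset.Icc 1 (p - 1), p ∣ orderOf (x ^ k) := fun k hk => by
    rw [Finset.mem_Icc] at hk
    rw [Nat.Coprime.orderOf_pow (by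
      rw [hx]
      exact hp.out.coprime_iff_not_dvd.2 fun h => absurd (Nat.le_of_dvd (by omega) h) (by omega)), hx]
  have hord : ∀ k ∈ Finset.Icc 1 (p - 1), orderOf (x ^ k) = p := fun k hk => by
    rw [Finset.mem_Icc] at hk
    rw [Nat.Coprime.orderOf_pow (by
      rw [hx]
      exact hp.out.coprime_iff_not_dvd.2 fun h => absurd (Nat.le_of_dvd (by omega) h) (by omega)), hx]
  have hconjord : ∀ (g u : G), orderOf (g * u * g⁻¹) = orderOf u := fun g u => by
    rw [show g * u * g⁻¹ = MulAut.conj g u from rfl, MulEquiv.orderOf_eq]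
  -- Case A
  by_cases hA : ∃ k ∈ Finset.Icc 1 (p - 1), ¬ IsConj x⁻¹ (x ^ k)
  · obtain ⟨k, hk, hnc⟩ := hA
    have hsing : ∀ g : G, p ∣ orderOf (x * (g * x ^ k * g⁻¹)) := by
      intro g
      by_contra hreg
      have ho : orderOf (g * x ^ k * g⁻¹) = p := (hconjord g _).trans (hord k hk)
      have h1 := isConj_inv_of_regular hx ho hab (hpair _ _ hx ho) hreg
      exact hnc (h1.trans (isConj_iff.2 ⟨g⁻¹, by group⟩))
    obtain ⟨χ, hχB, hχne, hχ1⟩ : ∃ χ ∈ principalBlock M G, (∀ j, θ j ≠ χ) ∧ χ ≠ trivChar G := by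
      by_contra h
      push Not at h
      have hsub : principalBlock M G ⊆ insert (trivChar G) (Set.range θ) := fun χ hχ => by
        by_cases hne : ∀ j, θ j ≠ χ
        · exact Or.inl (h χ hχ hne)
        · push Not at hne
          exact Or.inr hne
      have h1 := Set.ncard_le_ncard hsub (Set.toFinite _)
      have h2 := Set.ncard_insert_le (trivChar G) (Set.range θ)
      rw [← Nat.card_coe_set_eq, hcardB] at h1
      rw [← Nat.card_coe_set_eq (Set.range θ), Nat.card_range_of_injective hθ, Nat.card_fin] at h2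
      omega
    have hval : ∀ g : G, p ∣ orderOf g → (χ : G → ℂ) g = ((δ χ * ε : ℤ) : ℂ) := fun g hg => by
      rw [hoff χ hχB hχne g hg, hWε g hg, Int.cast_mul]
    have h := sum_char_mul_conj χ x (x ^ k)
    rw [Finset.sum_congr rfl fun g _ => hval _ (hsing g), hval x hxd, hval _ (hpow k hk),
      Finset.sum_const, Finset.card_univ, ← Nat.card_eq_fintype_card, nsmul_eq_mul,
      apply_one_eq_charDegree] at h
    set s : ℤ := δ χ * ε with hs
    have hs1 : s = 1 ∨ s = -1 := by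
      rcases hδ χ with h' | h' <;> rcases hε with h'' | h'' <;> rw [hs, h', h''] <;> norm_num
    have hd0 : (charDegree (χ : G → ℂ) : ℂ) ≠ 0 :=
      Nat.cast_ne_zero.2 (CfsgLib.CharDegree.charDegree_pos χ).ne'
    have hN : (Nat.card G : ℂ) ≠ 0 := Nat.cast_ne_zero.2 Nat.card_pos.ne'
    rw [eq_div_iff hd0, mul_assoc, mul_assoc] at h
    have h' := mul_left_cancel₀ hN h
    have hZ : s * (charDegree (χ : G → ℂ) : ℤ) = s * s := by exact_mod_cast h'
    have hd : (charDegree (χ : G → ℂ) : ℤ) = s := mul_left_cancel₀ (by omega) hZ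
    exact hχ1 (FewSylow.eq_trivChar hperf χ (by omega))
  -- Case B
  push Not at hA
  have hxx : ∀ k ∈ Finset.Icc 1 (p - 1), IsConj x (x ^ k) := fun k hk =>
    ((hA 1 (Finset.mem_Icc.2 ⟨le_rfl, by omega⟩)).symm.trans (hA k hk) |> fun h => by simpa using h)
  have hone : ∀ (g : G) (k l : ℕ), k ∈ Finset.Icc 1 (p - 1) → l ∈ Finset.Icc 1 (p - 1) →
      ¬ p ∣ orderOf (x ^ k * (g * x * g⁻¹)) → ¬ p ∣ orderOf (x ^ l * (g * x * g⁻¹)) → k = l := by
    intro g k l hk hl hrk hrl
    have ho : orderOf (g * x * g⁻¹) = p := (hconjord g x).trans hx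
    have he := eq_of_regular hx ho hab (hpair _ _ hx ho) hrk hrl
    rw [pow_eq_pow_iff_modEq, hx] at he
    simp only [Finset.mem_Icc] at hk hl
    exact he.eq_of_lt_of_lt (by omega) (by omega)
  have hqcard : Nat.card (P : Subgroup G) = e * t + 1 := by rw [hcard, K.eq_pow]
  have hP3 : 3 ≤ Nat.card (P : Subgroup G) := by
    rw [hcard]
    exact hp3.trans (Nat.le_self_pow K.a_pos.ne' p)
  by_cases ht : t = 1
  · have hall : ∀ χ ∈ principalBlock M G, ∃ s : ℤ, (s = 1 ∨ s = -1) ∧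
        ∀ g : G, p ∣ orderOf g → (χ : G → ℂ) g = (s : ℂ) := by
      intro χ hχ
      by_cases hne : ∀ j, θ j ≠ χ
      · refine ⟨δ χ * ε, ?_, fun g hg => by rw [hoff χ hχ hne g hg, hWε g hg, Int.cast_mul]⟩
        rcases hδ χ with h' | h' <;> rcases hε with h'' | h'' <;> rw [h', h''] <;> norm_num
      · push Not at hne
        obtain ⟨j, hj⟩ := hne
        refine ⟨δ₀ * ε, ?_, fun g hg => ?_⟩
        · rcases hδ₀ with h' | h' <;> rcases hε with h'' | h'' <;> rw [h', h''] <;> norm_num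
        · have h := hsumθ g hg
          subst ht
          rw [Fin.sum_univ_one, Subsingleton.elim (0 : Fin 1) j, hj, hWε g hg] at h
          rw [h, Int.cast_mul]
    choose s hs hsv using hall
    refine false_of_constant hG hp3 hM hx P hP3 hone
      (fun χ => if h : χ ∈ principalBlock M G then s χ h else 0)
      (fun χ hχ z hz => by rw [dif_pos hχ]; exact hsv χ hχ z hz) ?_
    have h1 : ∀ χ : IrrCharacter G, χ ∈ principalBlock M G → ‖(χ : G → ℂ) x‖ ^ 2 = (1 : ℝ) := by
      intro χ hχ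
      rw [hsv χ hχ x hxd]
      rcases hs χ hχ with h' | h' <;> simp [h']
    rw [finsum_mem_eq_finite_toFinset_sum _ (Set.toFinite _),
      Finset.sum_congr rfl (fun (χ : IrrCharacter G) hχ => h1 χ ((Set.Finite.mem_toFinset _).1 hχ)),
      Finset.sum_const, nsmul_eq_mul, mul_one, ← Set.ncard_eq_toFinset_card, ← Nat.card_coe_set_eq,
      hcardB, hqcard, ht, mul_one]
  -- several exceptional characters
  have ht2 : 2 ≤ t := by have := K.t_pos; omega
  have hC : HasNormalPComplement p (Subgroup.centralizer ({x} : Set G)) := by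
    set C := Subgroup.centralizer ({x} : Set G) with hCdef
    have hle : (P : Subgroup G) ≤ C := fun u hu =>
      Subgroup.mem_centralizer_singleton_iff.2 (hPcomm u hu x hxP)
    set SC : Sylow p C := P.subtype hle with hSC
    have hSCc : (SC : Subgroup C) = (P : Subgroup G).subgroupOf C := rfl
    have hNC : Subgroup.normalizer ((SC : Subgroup C) : Set C) ≤
        Subgroup.centralizer ((SC : Subgroup C) : Set C) := by
      intro g hg
      have hgN : (g : G) ∈ Subgroup.normalizer ((P : Subgroup G) : Set G) := by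
        refine Subgroup.mem_normalizer_iff.2 fun u => ⟨fun hu => ?_, fun hu => ?_⟩
        · exact ((Subgroup.mem_normalizer_iff.1 hg ⟨u, hle hu⟩).1 (by rw [hSCc]; exact hu) :)
        · have hu' : u ∈ C := by
            have h1 := mul_mem (mul_mem (inv_mem g.2) (hle hu)) g.2
            rwa [show (g : G)⁻¹ * ((g : G) * u * (g : G)⁻¹) * (g : G) = u by group] at h1
          exact ((Subgroup.mem_normalizer_iff.1 hg ⟨u, hu'⟩).2 (by rw [hSCc]; exact hu) :)
      have hfix : (g : G) * x * (g : G)⁻¹ = x := by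
        rw [Subgroup.mem_centralizer_singleton_iff.1 g.2, mul_inv_cancel_right]
      have hgC := hfree (g : G) (hNP hgN) x hxP (fun h => by
        rw [h, orderOf_one] at hx; exact hp.out.one_lt.ne hx) hfix
      refine Subgroup.mem_centralizer_iff.2 fun v hv => Subtype.ext ?_
      exact Subgroup.mem_centralizer_iff.1 hgC (v : G) (by rw [hSCc] at hv; exact hv)
    exact ⟨SC, _, inferInstance, MonoidHom.ker_transferSylow_isComplement' SC hNC⟩
  have hint := exists_int_of_all_powers hx hxx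
  choose cθ hcθx using fun i => hint (θ i)
  -- constancy on the singular products
  have hprod : ∀ i, ∀ k ∈ Finset.Icc 1 (p - 1), ∀ g : G,
      p ∣ orderOf (x ^ k * (g * x * g⁻¹)) →
        (θ i : G → ℂ) (x ^ k * (g * x * g⁻¹)) = (cθ i : ℂ) := by
    intro i k hk g hz
    have hb : orderOf (g * x * g⁻¹) = p := (hconjord g x).trans hx
    have hzp := not_dvd_orderOf_mul_pow (hord k hk) hb hab (hpair _ _ (hord k hk) hb)
    generalize hzdef : x ^ k * (g * x * g⁻¹) = z at hz hzp ⊢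
    obtain ⟨u, s, hus, hc, hu, hs⟩ := exists_pPart hp.out z
    have hu1 : u ≠ 1 := fun h => by rw [← hus, h, one_mul] at hz; exact hs hz
    have hup : u ^ p = 1 := by
      obtain ⟨m, hm⟩ := hu
      have h1 : orderOf (u ^ p) ∣ p ^ m := hm ▸ orderOf_pow_dvd p
      have h2 : ¬ p ∣ orderOf (s ^ p) := fun h => hs (h.trans (orderOf_pow_dvd p))
      obtain ⟨j, -, hj⟩ := (Nat.dvd_prime_pow hp.out).1 h1
      have hmul : orderOf ((u * s) ^ p) = orderOf (u ^ p) * orderOf (s ^ p) := by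
        rw [hc.mul_pow]
        exact (hc.pow_pow p p).orderOf_mul_eq_mul_orderOf_of_coprime
          (hj ▸ (hp.out.coprime_iff_not_dvd.2 h2).pow_left j)
      rcases j with _ | j
      · exact orderOf_eq_one_iff.1 (by rw [hj, pow_zero])
      · refine absurd ?_ hzp
        rw [← hus, hmul, hj]
        exact dvd_mul_of_dvd_left (dvd_pow_self p j.succ_ne_zero) _
    have huo : orderOf u = p := orderOf_eq_prime hup hu1
    obtain ⟨Q, hQ⟩ := (IsPGroup.of_card (n := 1)
      (show Nat.card (Subgroup.zpowers u) = p ^ 1 by rw [Nat.card_zpowers, huo, pow_one])).exists_le_sylow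
    obtain ⟨h, hh⟩ := MulAction.exists_smul_eq G Q P
    have hvP : h * u * h⁻¹ ∈ (P : Subgroup G) := by
      rw [← hh, Sylow.coe_subgroup_smul, Subgroup.mem_smul_pointwise_iff_exists]
      exact ⟨u, hQ (Subgroup.mem_zpowers u), rfl⟩
    have huniq := CfsgLib.Orders.ConjAll.unique_of_cyclic P hPc (Subgroup.zpowers y)
      (Subgroup.zpowers ⟨h * u * h⁻¹, hvP⟩) (by rw [Nat.card_zpowers, hy])
      (by rw [Nat.card_zpowers, ← Subgroup.orderOf_coe, hconjord, huo])
    obtain ⟨m, hm⟩ := Subgroup.mem_zpowers_iff.1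
      (huniq.symm ▸ Subgroup.mem_zpowers (⟨h * u * h⁻¹, hvP⟩ : (P : Subgroup G)))
    obtain ⟨l, hl, hl'⟩ : ∃ l ∈ Finset.Icc 1 (p - 1), x ^ l = h * u * h⁻¹ := by
      have hm' : x ^ m = h * u * h⁻¹ := by
        have := congrArg Subtype.val hm
        simpa using this
      obtain ⟨n, hn, hnm⟩ : ∃ n : ℕ, n < p ∧ x ^ n = x ^ m := by
        refine ⟨(m % (p : ℤ)).toNat, ?_, ?_⟩
        · have := Int.emod_lt_of_pos m (show (0 : ℤ) < p by exact_mod_cast hp.out.pos)
          omega
        · rw [← zpow_natCast, Int.toNat_of_nonneg (Int.emod_nonneg _ (by exact_mod_cast hp.out.ne_zero)),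
            ← hx, zpow_mod_orderOf]
      refine ⟨n, Finset.mem_Icc.2 ⟨Nat.one_le_iff_ne_zero.2 fun h0 => hu1 ?_, by omega⟩, hnm.trans hm'⟩
      rw [h0, pow_zero] at hnm
      exact conj_eq_one_iff.1 (hm'.symm.trans hnm.symm)
    have hcl := IsIrr.isClassFunction (θ i).2
    have hzl : h * z * h⁻¹ = x ^ l * (h * s * h⁻¹) := by rw [hl', ← hus]; group
    have hCl : HasNormalPComplement p (Subgroup.centralizer ({x ^ l} : Set G)) := by
      have hz' : Subgroup.zpowers (x ^ l) = Subgroup.zpowers x :=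
        Subgroup.eq_of_le_of_card_ge (Subgroup.zpowers_le.2 (pow_mem (Subgroup.mem_zpowers x) l))
          (by rw [Nat.card_zpowers, Nat.card_zpowers, hord l hl, hx])
      have hCeq : Subgroup.centralizer ({x ^ l} : Set G) = Subgroup.centralizer ({x} : Set G) := by
        rw [← Subgroup.centralizer_closure, ← Subgroup.zpowers_eq_closure, hz',
          Subgroup.zpowers_eq_closure, Subgroup.centralizer_closure]
      rw [hCeq]
      exact hC
    rw [← hcl z h, hzl, apply_mul_eq_of_hasNormalPComplement hM (hθB i)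
      ⟨1, by rw [pow_one, hord l hl]⟩ (hl' ▸ (hc.map (MulAut.conj h) :)) (by rw [hconjord]; exact hs) hCl]
    obtain ⟨w, hw⟩ := isConj_iff.1 (hxx l hl)
    rw [← hw, hcl, hcθx]
  -- the quadratic relation
  set I := Finset.Icc 1 (p - 1) with hI
  set sing : Finset (ℕ × G) := (I ×ˢ (Finset.univ : Finset G)).filter
    fun w => p ∣ orderOf (x ^ w.1 * (w.2 * x * w.2⁻¹)) with hsingdef
  set reg : Finset (ℕ × G) := (I ×ˢ (Finset.univ : Finset G)).filter
    fun w => ¬ p ∣ orderOf (x ^ w.1 * (w.2 * x * w.2⁻¹)) with hregdef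
  obtain ⟨i₀, -⟩ : ∃ i : Fin t, True := ⟨⟨0, by omega⟩, trivial⟩
  set d := charDegree (θ i₀ : G → ℂ) with hddef
  have hdeq : ∀ i, (θ i : G → ℂ) 1 = (d : ℂ) := fun i => by
    rw [exceptional_regular K hθ hcθ hδ₀ne hcX i i₀ (by simpa using hp.out.ne_one),
      apply_one_eq_charDegree]
  have hd0 : 0 < d := CfsgLib.CharDegree.charDegree_pos _
  set R : ℂ := ∑ w ∈ reg, (θ i₀ : G → ℂ) (x ^ w.1 * (w.2 * x * w.2⁻¹)) with hR
  have hquad : ∀ i, ((p - 1 : ℕ) : ℂ) * (Nat.card G : ℂ) * (cθ i : ℂ) ^ 2 / (d : ℂ) =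
      (sing.card : ℂ) * (cθ i : ℂ) + R := by
    intro i
    rw [← hdeq i, ← sum_powers_identity (θ i) (fun l hl => by
      obtain ⟨w, hw⟩ := isConj_iff.1 (hxx l hl)
      rw [← hw, IsIrr.isClassFunction (θ i).2, hcθx]) (hcθx i),
      ← Finset.sum_product' (f := fun k g => (θ i : G → ℂ) (x ^ k * (g * x * g⁻¹))),
      ← Finset.sum_filter_add_sum_filter_not _ (fun w : ℕ × G => p ∣ orderOf (x ^ w.1 * (w.2 * x * w.2⁻¹)))]
    congr 1
    · rw [Finset.sum_congr rfl fun w hw => hprod i w.1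
        (Finset.mem_product.1 (Finset.mem_filter.1 hw).1).1 w.2 (Finset.mem_filter.1 hw).2,
        Finset.sum_const, nsmul_eq_mul]
    · exact Finset.sum_congr rfl fun w hw =>
        exceptional_regular K hθ hcθ hδ₀ne hcX i i₀ (Finset.mem_filter.1 hw).2
  have hroot : ∀ i j, cθ i ≠ cθ j →
      (p - 1 : ℕ) * (Nat.card G : ℤ) * (cθ i + cθ j) = (sing.card : ℤ) * d := by
    intro i j hij
    have h := hquad i
    have h' := hquad j
    rw [div_eq_iff (Nat.cast_ne_zero.2 hd0.ne')] at h h'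
    have h2 : ((((p - 1 : ℕ) : ℤ) * (Nat.card G : ℤ) * (cθ i + cθ j) - (sing.card : ℤ) * d : ℤ) : ℂ) *
        ((cθ i : ℂ) - (cθ j : ℂ)) = 0 := by
      push_cast
      linear_combination h - h'
    have h3 := (mul_eq_zero.1 h2).resolve_right (sub_ne_zero.2 fun e' => hij (by exact_mod_cast e'))
    exact sub_eq_zero.1 (by exact_mod_cast h3)
  obtain ⟨g₀, hg₀⟩ : ∃ g : G, p ∣ orderOf g := ⟨x, hxd⟩
  have hsumc : ∑ i, cθ i = δ₀ * ε := by
    have h := hsumθ x hxd
    rw [hWε x hxd, Finset.sum_congr rfl fun i _ => hcθx i] at h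
    exact_mod_cast h
  have hsum1 : ∑ i, cθ i = 1 ∨ ∑ i, cθ i = -1 := by
    rw [hsumc]
    rcases hδ₀ with h' | h' <;> rcases hε with h'' | h'' <;> rw [h', h''] <;> norm_num
  have hmod : ∀ i, (p : ℤ) ∣ (d : ℤ) - cθ i := by
    intro i
    obtain ⟨m, hm⟩ := CharAverage.exists_sum_eq (Subgroup.zpowers x) (IsIrr.isCharacter (θ i).2)
    have hval : ∀ w : Subgroup.zpowers x, w ≠ 1 → (θ i : G → ℂ) w = (cθ i : ℂ) := by
      intro w hw
      obtain ⟨n, hn⟩ := ((isOfFinOrder_of_finite x).mem_powers_iff_mem_zpowers).2 w.2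
      simp only at hn
      rw [← hn, ← pow_mod_orderOf, hx]
      have hn0 : n % p ≠ 0 := fun h0 => hw (Subtype.ext (by
        rw [← hn, ← pow_mod_orderOf, hx, h0, pow_zero]; rfl))
      obtain ⟨v, hv⟩ := isConj_iff.1 (hxx (n % p)
        (Finset.mem_Icc.2 ⟨Nat.one_le_iff_ne_zero.2 hn0, by have := Nat.mod_lt n hp.out.pos; omega⟩))
      rw [← hv, IsIrr.isClassFunction (θ i).2, hcθx]
    rw [← Finset.add_sum_erase _ _ (Finset.mem_univ (1 : Subgroup.zpowers x)),
      Finset.sum_congr rfl (fun w hw => hval w (Finset.ne_of_mem_erase hw)), Finset.sum_const,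
      Finset.card_erase_of_mem (Finset.mem_univ _), Finset.card_univ, ← Nat.card_eq_fintype_card,
      OneMemClass.coe_one, hdeq i, nsmul_eq_mul, Nat.card_zpowers, hx, Nat.cast_sub hp.out.pos,
      Nat.cast_one] at hm
    refine ⟨(m : ℤ) - cθ i, ?_⟩
    apply Int.cast_injective (α := ℂ)
    push_cast
    linear_combination hm
  obtain ⟨i₁, -, h₁⟩ := Finset.exists_min_image (Finset.univ : Finset (Fin t)) cθ ⟨i₀, Finset.mem_univ _⟩
  obtain ⟨i₂, -, h₂⟩ := Finset.exists_max_image (Finset.univ : Finset (Fin t)) cθ ⟨i₀, Finset.mem_univ _⟩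
  have hlt : cθ i₁ < cθ i₂ := by
    refine lt_of_le_of_ne (h₁ i₂ (Finset.mem_univ _)) fun e' => ?_
    have hall : ∀ i, cθ i = cθ i₁ := fun i =>
      le_antisymm (e' ▸ h₂ i (Finset.mem_univ _)) (h₁ i (Finset.mem_univ _))
    rw [Finset.sum_congr rfl fun i _ => hall i, Finset.sum_const, Finset.card_univ, Fintype.card_fin,
      nsmul_eq_mul] at hsum1
    have hdv : (t : ℤ) ∣ 1 := by
      rcases hsum1 with h | h
      · exact ⟨cθ i₁, h.symm⟩
      · exact ⟨-cθ i₁, by linear_combination h⟩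
    have := Int.le_of_dvd one_pos hdv
    omega
  have hneg : cθ i₁ < 0 := by
    by_contra hpos
    push Not at hpos
    have h3 : cθ i₂ ≤ ∑ i, cθ i := Finset.single_le_sum
      (fun i _ => hpos.trans (h₁ i (Finset.mem_univ _))) (Finset.mem_univ i₂)
    have h4 := Int.le_of_dvd (by omega) (dvd_sub (hmod i₁) (hmod i₂))
    omega
  have hd2 : cθ i₂ < (d : ℤ) := by
    refine lt_of_le_of_ne ?_ fun e' => ?_
    · have h := IsChar.norm_le (IsIrr.isCharacter (θ i₂).2) x
      rw [hcθx, hdeq, Complex.norm_intCast, Complex.norm_natCast] at h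
      exact le_trans (le_abs_self _) (by exact_mod_cast h)
    · have hd1 : charDegree (θ i₂ : G → ℂ) ≠ 1 := fun h =>
        hnot ht2 i₂ (FewSylow.eq_trivChar hperf _ h)
      have hx1 : x = 1 := ThreePrimeOrder.eq_one_of_apply_eq hd1 (by
        rw [hcθx, hdeq, e']; push_cast; rfl)
      rw [hx1, orderOf_one] at hx
      exact hp.out.one_lt.ne hx
  -- the bound on the squares
  have hsq : cθ i₂ ^ 2 < ((e * t + 1 : ℕ) : ℤ) := by
    have h := sum_norm_sq_le hM ⟨1, by rw [hx, pow_one]⟩ P hC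
    rw [finsum_mem_eq_finite_toFinset_sum _ (Set.toFinite _), hqcard] at h
    have hsub : ({trivChar G, θ i₂} : Finset (IrrCharacter G)) ⊆
        (Set.toFinite (principalBlock M G)).toFinset := by
      intro χ hχ
      simp only [Finset.mem_insert, Finset.mem_singleton] at hχ
      rcases hχ with rfl | rfl
      · exact (Set.Finite.mem_toFinset _).2 htriv
      · exact (Set.Finite.mem_toFinset _).2 (hθB _)
    have h5 := (Finset.sum_le_sum_of_subset_of_nonneg hsub
      (fun (χ : IrrCharacter G) _ _ => by positivity)).trans h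
    rw [Finset.sum_pair (hnot ht2 i₂).symm, trivChar_apply, hcθx, Complex.norm_intCast, sq_abs,
      norm_one] at h5
    have h6 : ((1 + cθ i₂ ^ 2 : ℤ) : ℝ) ≤ (((e * t + 1 : ℕ) : ℤ) : ℝ) := by
      push_cast at h5 ⊢
      linarith
    have h7 : 1 + cθ i₂ ^ 2 ≤ ((e * t + 1 : ℕ) : ℤ) := by exact_mod_cast h6
    omega
  -- the congruence of the degree
  have hde : (p : ℤ) ^ a ∣ (d : ℤ) - e ∨ (p : ℤ) ^ a ∣ (d : ℤ) + e := by
    obtain ⟨N, hN⟩ := K.degree_modEq (P : Subgroup G) P.2 hcard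
    have h1 := hN _ htriv
    rw [show charDegree ((trivChar G : IrrCharacter G) : G → ℂ) = 1 from
        CfsgLib.CharDegree.charDegree_eq_of_apply_one (by simp [trivChar_apply]),
      Finset.sum_congr rfl fun j _ => hcX _ htriv (hnot ht2) j, Finset.sum_const, Finset.card_univ,
      Fintype.card_fin, nsmul_eq_mul, Nat.cast_one] at h1
    have h2 := hN _ (hθB i₀)
    simp only [hcθ, Finset.sum_ite_eq', Finset.mem_univ, if_true] at h2
    rw [← hddef] at h2
    rw [Int.modEq_iff_dvd] at h1 h2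
    have hq : ((p : ℤ) ^ a) = (e : ℤ) * t + 1 := by exact_mod_cast K.eq_pow.symm
    obtain ⟨u₁, hu₁⟩ := h1
    obtain ⟨u₂, hu₂⟩ := h2
    rcases hδ (trivChar G) with h3 | h3 <;> rcases hδ₀ with h4 | h4 <;> rw [h3] at hu₁ <;>
      rw [h4] at hu₂
    · exact Or.inr ⟨N - (e : ℤ) * u₁ - u₂, by
        linear_combination (-1 : ℤ) * hu₂ + (-(e : ℤ)) * hu₁ - N * hq⟩
    · exact Or.inl ⟨-N + (e : ℤ) * u₁ - u₂, by
        linear_combination (-1 : ℤ) * hu₂ + (e : ℤ) * hu₁ + N * hq⟩
    · exact Or.inl ⟨N + (e : ℤ) * u₁ - u₂, by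
        linear_combination (-1 : ℤ) * hu₂ + (e : ℤ) * hu₁ - N * hq⟩
    · exact Or.inr ⟨-N - (e : ℤ) * u₁ - u₂, by
        linear_combination (-1 : ℤ) * hu₂ + (-(e : ℤ)) * hu₁ + N * hq⟩
  have hsumb : ((p : ℤ) - 2) * d ≤ ((p : ℤ) - 1) * (cθ i₁ + cθ i₂) := by
    have hr := hroot i₁ i₂ hlt.ne
    have hreg : reg.card ≤ Nat.card G := by
      rw [Nat.card_eq_fintype_card, ← Finset.card_univ]
      refine Finset.card_le_card_of_injOn Prod.snd (fun w _ => Finset.mem_univ _) ?_
      rintro ⟨k, g⟩ hk ⟨l, g'⟩ hl (rfl : g = g')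
      simp only [hregdef, Finset.coe_filter, Set.mem_ofPred_eq, Finset.mem_product] at hk hl
      exact Prod.ext (hone g k l hk.1.1 hl.1.1 hk.2 hl.2) rfl
    have htot : sing.card + reg.card = (p - 1) * Nat.card G := by
      rw [hsingdef, hregdef, Finset.card_filter_add_card_filter_not, Finset.card_product, hI,
        Nat.card_Icc, Finset.card_univ, Nat.card_eq_fintype_card, Nat.add_sub_cancel]
    have hs : (p - 2) * Nat.card G ≤ sing.card := by
      rw [show p - 1 = p - 2 + 1 by omega, Nat.add_mul, one_mul] at htot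
      omega
    have hsZ : ((p : ℤ) - 2) * (Nat.card G : ℤ) ≤ sing.card := by
      have : (((p - 2) * Nat.card G : ℕ) : ℤ) ≤ sing.card := by exact_mod_cast hs
      rwa [Nat.cast_mul, Nat.cast_sub (by omega)] at this
    rw [Nat.cast_sub (by omega : 1 ≤ p), Nat.cast_one] at hr
    refine le_of_mul_le_mul_right ?_ (Int.natCast_pos.2 (Nat.card_pos : 0 < Nat.card G))
    calc ((p : ℤ) - 2) * d * (Nat.card G : ℤ) = ((p : ℤ) - 2) * (Nat.card G : ℤ) * d := by ring
      _ ≤ (sing.card : ℤ) * d := mul_le_mul_of_nonneg_right hsZ (Int.natCast_nonneg _)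
      _ = _ := by rw [← hr]; ring
  refine false_of_two_roots p a (p ^ a) d e (cθ i₁) (cθ i₂) hp3 rfl K.a_pos hedvd hlt hneg (hmod i₂) hd2
    hsumb ?_ ?_
  · rw [← K.eq_pow]; exact hsq
  · push_cast; exact hde

end CfsgLib.PGroups.PairProd
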