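import Cfsg.Agent.Lib.Blocks.Cyclic.Exceptional

/-!
# Values on the singular elements in a block with cyclic defect group
-/

set_option autoImplicit false

namespace CfsgLib.PGroups.PairProd

open Cfsg CfsgLib.Char CfsgLib.Blocks.Cyclic

variable {G : Type*} [Group G] [Fintype G] [Fintype (IrrCharacter G)] {p : ℕ} [Fact p.Prime]
  {B : Set (IrrCharacter G)} {a e t : ℕ} {c : Fin t → IrrCharacter G → ℤ}
  (K : Core p B a e t c) {θ : Fin t → IrrCharacter G} {δ : IrrCharacter G → ℤ} {δ₀ : ℤ}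
include K

/-- The value of a nonexceptional character. -/
theorem apply_of_ne (hcX : ∀ χ ∈ B, (∀ j, θ j ≠ χ) → ∀ i, c i χ = δ χ) {χ : IrrCharacter G}
    (hχ : χ ∈ B) (hne : ∀ j, θ j ≠ χ) {g : G} (hg : p ∣ orderOf g) :
    (χ : G → ℂ) g = (δ χ : ℂ) * ((∑ j, gam (c j) g) / (p : ℂ) ^ a) := by
  rw [K.singular χ hχ g hg]
  simp only [hcX χ hχ hne, Finset.sum_const, Finset.card_univ, Fintype.card_fin, nsmul_eq_mul]
  rw [← Finset.mul_sum]
  have hq : (p : ℂ) ^ a ≠ 0 := pow_ne_zero _ (Nat.cast_ne_zero.2 (Fact.out : p.Prime).ne_zero)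
  have h := K.cast_eq
  field_simp
  linear_combination (δ χ : ℂ) * (∑ j, gam (c j) g) * h

/-- The sum of the exceptional characters. -/
theorem sum_exceptional (hθB : ∀ j, θ j ∈ B)
    (hcθ : ∀ i j, c i (θ j) = if i = j then δ₀ else 0) {g : G} (hg : p ∣ orderOf g) :
    ∑ i, (θ i : G → ℂ) g = (δ₀ : ℂ) * ((∑ j, gam (c j) g) / (p : ℂ) ^ a) := by
  classical
  rw [Finset.sum_congr rfl fun i _ => K.singular (θ i) (hθB i) g hg]
  simp only [hcθ, Int.cast_ite, Int.cast_zero, Finset.sum_ite_eq', Finset.mem_univ, if_true]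
  simp only [sub_mul, Finset.sum_sub_distrib, ite_mul, zero_mul, Finset.sum_ite_eq', Finset.mem_univ,
    if_true, Finset.sum_const, Finset.card_univ, Fintype.card_fin, nsmul_eq_mul]
  rw [← Finset.mul_sum, ← Finset.mul_sum]
  have hq : (p : ℂ) ^ a ≠ 0 := pow_ne_zero _ (Nat.cast_ne_zero.2 (Fact.out : p.Prime).ne_zero)
  have h := K.cast_eq
  field_simp
  linear_combination (δ₀ : ℂ) * (∑ j, gam (c j) g) * h

/-- The exceptional characters agree on the regular elements. -/
theorem exceptional_regular (hθ : Function.Injective θ)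
    (hcθ : ∀ i j, c i (θ j) = if i = j then δ₀ else 0) (hδ₀ : δ₀ ≠ 0)
    (hcX : ∀ χ ∈ B, (∀ j, θ j ≠ χ) → ∀ i, c i χ = δ χ)
    (i j : Fin t) {g : G} (hg : ¬ p ∣ orderOf g) : (θ i : G → ℂ) g = (θ j : G → ℂ) g := by
  classical
  rcases eq_or_ne i j with rfl | hij
  · rfl
  have hsupp : ∀ χ, χ ∉ ({θ i, θ j} : Finset (IrrCharacter G)) → c i χ - c j χ = 0 := by
    intro χ hχ
    simp only [Finset.mem_insert, Finset.mem_singleton, not_or] at hχ
    by_cases hB : χ ∈ B
    · by_cases hne : ∀ k, θ k ≠ χ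
      · rw [hcX χ hB hne, hcX χ hB hne, sub_self]
      · push Not at hne
        obtain ⟨k, rfl⟩ := hne
        rw [hcθ, hcθ, if_neg fun e => hχ.1 (congrArg θ e).symm, if_neg fun e => hχ.2 (congrArg θ e).symm,
          sub_self]
    · rw [K.support i χ hB, K.support j χ hB, sub_self]
  have h : gam (c i) g - gam (c j) g = 0 := by rw [K.regular i g hg, K.regular j g hg, sub_self]
  simp only [gam, ← Finset.sum_sub_distrib, ← sub_mul] at h
  rw [← Finset.sum_subset (Finset.subset_univ ({θ i, θ j} : Finset (IrrCharacter G)))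
      (fun χ _ hχ => by rw [← Int.cast_sub, hsupp χ hχ, Int.cast_zero, zero_mul]),
    Finset.sum_pair (hθ.ne hij)] at h
  simp only [hcθ, if_pos, if_neg hij, if_neg hij.symm, Int.cast_zero, sub_zero, zero_sub, neg_mul] at h
  have h' : (δ₀ : ℂ) * ((θ i : G → ℂ) g - (θ j : G → ℂ) g) = 0 := by linear_combination h
  exact sub_eq_zero.1 ((mul_eq_zero.1 h').resolve_left (Int.cast_ne_zero.2 hδ₀))

end CfsgLib.PGroups.PairProd
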