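import Cfsg.Agent.Lib.PGroups.PairProd.Values

/-!
# Elementary abelian Sylow subgroups with one class
-/

set_option autoImplicit false

namespace CfsgLib.PGroups.PairProd

open Cfsg CfsgLib.Char CfsgLib.Blocks

theorem eq_two_of_one_class {G : Type*} [Group G] [Finite G] [IsSimpleGroup G]
    (hG : ¬ IsMulCommutative G) {p : ℕ} [hp : Fact p.Prime] (P : Sylow p G)
    (hP1 : (P : Subgroup G) ≠ ⊥) (hPe : IsElementaryAbelian p (P : Subgroup G))
    (hconj : ∀ x ∈ (P : Subgroup G), ∀ y ∈ (P : Subgroup G), x ≠ 1 → y ≠ 1 → ∃ g : G, g * x * g⁻¹ = y)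
    (hb : ∀ x ∈ (P : Subgroup G), orderOf x = p →
      HasNormalPComplement p (Subgroup.centralizer ({x} : Set G)))
    (hc : ∀ x y : G, orderOf x = p → orderOf y = p →
      IsPSolvable p (Subgroup.closure ({x, y} : Set G))) :
    p = 2 := by
  by_contra hp2
  have hp3 : 3 ≤ p := by have := hp.out.two_le; omega
  have := Fintype.ofFinite G
  obtain ⟨M, hM⟩ := CfsgLib.ZStar.exists_isPModular hp.out
  have := hM.2.1.isPrime
  obtain ⟨x, hxP, hx1⟩ := (Subgroup.bot_or_exists_ne_one _).resolve_left hP1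
  have horder : ∀ y ∈ (P : Subgroup G), y ≠ 1 → orderOf y = p := fun y hy hy1 =>
    orderOf_eq_prime (hPe.2 y hy) hy1
  have hx : orderOf x = p := horder x hxP hx1
  have hconjP : ∀ u : G, (∃ k : ℕ, orderOf u = p ^ k) → ∃ g : G, g * u * g⁻¹ ∈ (P : Subgroup G) := by
    intro u hu
    have hZ : IsPGroup p (Subgroup.zpowers u) := by
      obtain ⟨k, hk⟩ := hu
      exact IsPGroup.of_card (n := k) (by rw [Nat.card_zpowers, hk])
    obtain ⟨Q, hQ⟩ := hZ.exists_le_sylow
    obtain ⟨g, hg⟩ := MulAction.exists_smul_eq G Q P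
    refine ⟨g, ?_⟩
    rw [← hg, Sylow.coe_subgroup_smul, Subgroup.mem_smul_pointwise_iff_exists]
    exact ⟨u, hQ (Subgroup.mem_zpowers u), rfl⟩
  have hab : ∀ R : Subgroup G, IsPGroup p R → ∀ u ∈ R, ∀ v ∈ R, u * v = v * u := by
    intro R hR u hu v hv
    obtain ⟨Q, hQ⟩ := hR.exists_le_sylow
    obtain ⟨g, hg⟩ := MulAction.exists_smul_eq G Q P
    have hm : ∀ w ∈ R, g * w * g⁻¹ ∈ (P : Subgroup G) := fun w hw => by
      rw [← hg, Sylow.coe_subgroup_smul, Subgroup.mem_smul_pointwise_iff_exists]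
      exact ⟨w, hQ hw, rfl⟩
    have := hPe.1
    have h := congrArg Subtype.val
      (mul_comm' (⟨_, hm u hu⟩ : (P : Subgroup G)) ⟨_, hm v hv⟩)
    simpa using h
  have hint : ∀ χ : IrrCharacter G, ∃ n : ℤ, (χ : G → ℂ) x = n := fun χ =>
    exists_int_of_isConj χ fun m hm => by
      have hm1 : x ^ m ≠ 1 := fun h => by
        have hd := orderOf_dvd_of_pow_eq_one h
        rw [hx] at hd
        exact hp.out.coprime_iff_not_dvd.1
          ((hm.coprime_dvd_right (hx ▸ orderOf_dvd_natCard x)).symm) hd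
      exact isConj_iff.2 (hconj x hxP _ (pow_mem hxP m) hx1 hm1)
  choose c hcx using hint
  have hPcard : 3 ≤ Nat.card (P : Subgroup G) := by
    refine hp3.trans (Nat.le_of_dvd Nat.card_pos ?_)
    have := Subgroup.orderOf_dvd_natCard _ hxP
    rwa [hx] at this
  refine false_of_constant hG hp3 hM hx P hPcard ?_ c ?_
    (sum_norm_sq_le hM ⟨1, by rw [hx, pow_one]⟩ P (hb x hxP hx))
  · intro g k l hk hl hrk hrl
    have hb' : orderOf (g * x * g⁻¹) = p := by
      rw [show g * x * g⁻¹ = MulAut.conj g x from rfl, MulEquiv.orderOf_eq, hx]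
    have he := eq_of_regular hx hb' hab (hc _ _ hx hb') hrk hrl
    rw [pow_eq_pow_iff_modEq, hx] at he
    simp only [Finset.mem_Icc] at hk hl
    exact he.eq_of_lt_of_lt (by omega) (by omega)
  · intro χ hχ z hz
    obtain ⟨u, s, rfl, hus, hu, hs⟩ := exists_pPart hp.out z
    obtain ⟨g, hg⟩ := hconjP u hu
    have hu1 : u ≠ 1 := fun h => by rw [h, one_mul] at hz; exact hs hz
    have hv1 : g * u * g⁻¹ ≠ 1 := fun h => hu1 (conj_eq_one_iff.1 h)
    have hcl := IsIrr.isClassFunction χ.2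
    have key : (χ : G → ℂ) ((g * u * g⁻¹) * (g * s * g⁻¹)) = (χ : G → ℂ) (g * u * g⁻¹) := by
      refine apply_mul_eq_of_hasNormalPComplement hM hχ ⟨1, by rw [pow_one]; exact horder _ hg hv1⟩
        ?_ ?_ (hb _ hg (horder _ hg hv1))
      · exact (hus.map (MulAut.conj g) :)
      · rwa [show g * s * g⁻¹ = MulAut.conj g s from rfl, MulEquiv.orderOf_eq]
    rw [show (g * u * g⁻¹) * (g * s * g⁻¹) = g * (u * s) * g⁻¹ by group, hcl] at key
    rw [key]
    obtain ⟨h, hh⟩ := hconj x hxP _ hg hx1 hv1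
    rw [← hh, hcl, hcx]

end CfsgLib.PGroups.PairProd
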