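import Cfsg.Agent.Lib.PLocal.PSolvable

/-!
# Products of two elements of order `p` generating a `p`-solvable subgroup

With abelian Sylow subgroups, such a product is `p`-regular only if the second element is conjugate
to the inverse of the first, and for at most one power of the first.
-/

set_option autoImplicit false

namespace CfsgLib.PGroups.PairProd

open Subgroup Cfsg CfsgLib.Core
open scoped commutatorElement

variable {G : Type*} [Group G] [Finite G] {p : ℕ} [hp : Fact p.Prime]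

/-- The Sylow subgroup of a `p`-solvable group with abelian Sylow subgroups, generated by elements of
`p`-power order, is the quotient by the `p'`-core. -/
theorem exists_complement {a b : G} (ha : orderOf a = p) (hb : orderOf b = p)
    (hab : ∀ R : Subgroup G, IsPGroup p R → ∀ u ∈ R, ∀ v ∈ R, u * v = v * u)
    (hsol : IsPSolvable p (closure ({a, b} : Set G))) :
    ∃ Q : Subgroup G, Q ≤ closure ({a, b} : Set G) ∧
      (∀ h ∈ closure ({a, b} : Set G), ∀ q ∈ Q, h * q * h⁻¹ ∈ Q) ∧ ¬ p ∣ Nat.card Q ∧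
      (∀ u ∈ closure ({a, b} : Set G), ∀ v ∈ closure ({a, b} : Set G), ⁅u, v⁆ ∈ Q) ∧
      ∀ u ∈ closure ({a, b} : Set G), ¬ p ∣ orderOf u → u ∈ Q := by
  set H := closure ({a, b} : Set G) with hH
  set N := pPrimeCore p H with hN
  set π := QuotientGroup.mk' N with hπ
  set R := pCore p (H ⧸ N) with hR
  have hsol' : IsPSolvable p (H ⧸ N) := CfsgLib.PLocal.isPSolvable_quotient hsol N
  have hcent : centralizer (R : Set (H ⧸ N)) ≤ R :=
    CfsgLib.PLocal.centralizer_pCore_le hsol' (pPrimeCore_quotient_pPrimeCore p H)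
  obtain ⟨S⟩ := (Sylow.nonempty : Nonempty (Sylow p H))
  set T := S.mapSurjective (f := π) (QuotientGroup.mk'_surjective N) with hT
  have hTab : ∀ u ∈ (T : Subgroup (H ⧸ N)), ∀ v ∈ (T : Subgroup (H ⧸ N)), u * v = v * u := by
    rintro _ ⟨u, hu, rfl⟩ _ ⟨v, hv, rfl⟩
    rw [← map_mul, ← map_mul]
    congr 1
    exact Subtype.ext (hab ((S : Subgroup H).map H.subtype) (S.2.map _) u ⟨u, hu, rfl⟩ v ⟨v, hv, rfl⟩)
  have hRT : R ≤ (T : Subgroup (H ⧸ N)) := pCore_le_sylow T
  have hTR : (T : Subgroup (H ⧸ N)) ≤ R := fun u hu =>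
    hcent (mem_centralizer_iff.2 fun v hv => hTab v (hRT hv) u hu)
  have hTeq : (T : Subgroup (H ⧸ N)) = R := le_antisymm hTR hRT
  have hTn : ((T : Subgroup (H ⧸ N))).Normal := hTeq ▸ inferInstance
  have hpT : ∀ w : H ⧸ N, w ^ p = 1 → w ∈ (T : Subgroup (H ⧸ N)) := by
    intro w hw
    have hz : IsPGroup p (zpowers w) := by
      refine IsPGroup.iff_card.2 ?_
      rw [Nat.card_zpowers]
      obtain ⟨k, -, hk⟩ := (Nat.dvd_prime_pow hp.out).1 (show orderOf w ∣ p ^ 1 by
        rw [pow_one]; exact orderOf_dvd_of_pow_eq_one hw)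
      exact ⟨k, hk⟩
    obtain ⟨T', hT'⟩ := hz.exists_le_sylow
    have := T.unique_of_normal hTn
    rw [Subsingleton.elim T T']
    exact hT' (mem_zpowers w)
  have hall : ∀ w : H ⧸ N, w ∈ (T : Subgroup (H ⧸ N)) := by
    have key : ∀ (h : G) (hh : h ∈ H), π ⟨h, hh⟩ ∈ (T : Subgroup (H ⧸ N)) := by
      intro h hh
      induction hh using closure_induction with
      | mem x hx =>
        refine hpT _ ?_
        rw [← map_pow]
        have : (⟨x, subset_closure hx⟩ : H) ^ p = 1 := by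
          refine Subtype.ext ?_
          rcases hx with rfl | rfl
          · simp [← ha, pow_orderOf_eq_one]
          · simp [← hb, pow_orderOf_eq_one]
        rw [this, map_one]
      | one => exact (T : Subgroup (H ⧸ N)).one_mem
      | mul x y hx hy ihx ihy =>
        exact (map_mul π ⟨x, hx⟩ ⟨y, hy⟩).symm ▸ (T : Subgroup (H ⧸ N)).mul_mem ihx ihy
      | inv x hx ih => exact (map_inv π ⟨x, hx⟩).symm ▸ (T : Subgroup (H ⧸ N)).inv_mem ih
    intro w
    obtain ⟨w, rfl⟩ := QuotientGroup.mk'_surjective N w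
    exact key w w.2
  refine ⟨N.map H.subtype, map_subtype_le N, ?_, ?_, ?_, ?_⟩
  · rintro h hh _ ⟨q, hq, rfl⟩
    exact ⟨⟨h, hh⟩ * q * ⟨h, hh⟩⁻¹, (inferInstance : N.Normal).conj_mem q hq _, rfl⟩
  · rw [card_map_of_injective H.subtype_injective]
    exact hp.out.coprime_iff_not_dvd.1 (coprime_card_pPrimeCore p H).symm
  · intro u hu v hv
    refine ⟨⁅(⟨u, hu⟩ : H), ⟨v, hv⟩⁆, ?_, by simp [commutatorElement_def]⟩
    rw [SetLike.mem_coe, ← QuotientGroup.ker_mk' N, MonoidHom.mem_ker, map_commutatorElement,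
      commutatorElement_eq_one_iff_mul_comm]
    exact hTab _ (hall _) _ (hall _)
  · intro u hu hreg
    refine ⟨⟨u, hu⟩, ?_, rfl⟩
    rw [SetLike.mem_coe, ← QuotientGroup.ker_mk' N, MonoidHom.mem_ker, ← hπ]
    obtain ⟨k, hk⟩ := T.2 ⟨_, hall (π ⟨u, hu⟩)⟩
    have h1 : (π ⟨u, hu⟩) ^ p ^ k = 1 := congrArg Subtype.val hk
    have h2 : orderOf (π ⟨u, hu⟩) ∣ orderOf u := by
      refine (orderOf_map_dvd π _).trans ?_
      rw [← Subgroup.orderOf_coe]
    refine orderOf_eq_one_iff.1 ?_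
    obtain ⟨j, -, hj⟩ := (Nat.dvd_prime_pow hp.out).1 (orderOf_dvd_of_pow_eq_one h1)
    rcases j with _ | j
    · simpa using hj

    · exact absurd ((hj ▸ dvd_pow_self p j.succ_ne_zero : p ∣ orderOf (π ⟨u, hu⟩)).trans h2) hreg

variable {a b : G} (ha : orderOf a = p) (hb : orderOf b = p)
  (hab : ∀ R : Subgroup G, IsPGroup p R → ∀ u ∈ R, ∀ v ∈ R, u * v = v * u)
  (hsol : IsPSolvable p (closure ({a, b} : Set G)))
include ha hb hab hsol

/-- A `p`-regular product comes from conjugate inverses. -/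
theorem isConj_inv_of_regular (hreg : ¬ p ∣ orderOf (a * b)) : IsConj a⁻¹ b := by
  obtain ⟨Q, hQH, hQn, hQp, hQc, hQr⟩ := exists_complement ha hb hab hsol
  set H := closure ({a, b} : Set G) with hH
  have haH : a ∈ H := subset_closure (Or.inl rfl)
  have hbH : b ∈ H := subset_closure (Or.inr rfl)
  have habQ : a * b ∈ Q := hQr _ (mul_mem haH hbH) hreg
  set K := zpowers a ⊔ Q with hK
  have hle : zpowers a ≤ normalizer (Q : Set G) := by
    refine zpowers_le.2 (mem_normalizer_iff.2 fun q => ⟨fun hq => hQn a haH q hq, fun hq => ?_⟩)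
    have := hQn a⁻¹ (inv_mem haH) _ hq
    simpa [mul_assoc] using this
  have hbK : b ∈ K := by
    have : b = a⁻¹ * (a * b) := by group
    rw [this]
    exact mul_mem (mem_sup_left (inv_mem (mem_zpowers a))) (mem_sup_right habQ)
  have hKH : K ≤ H := sup_le (zpowers_le.2 haH) hQH
  have hdis : zpowers a ⊓ Q = ⊥ := by
    refine (disjoint_of_coprime_natCard ?_).eq_bot
    rw [Nat.card_zpowers, ha]
    exact hp.out.coprime_iff_not_dvd.2 hQp
  have hKc : Nat.card K = p * Nat.card Q := by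
    have h := CfsgLib.Core.card_sup_mul_card_inf (zpowers a) Q hle
    rwa [hdis, card_bot, mul_one, Nat.card_zpowers, ha, ← hK] at h
  have mk : ∀ c : G, c ∈ K → orderOf c = p →
      ∃ S : Sylow p K, (S : Subgroup K) = (zpowers c).subgroupOf K := fun c hc hco => by
    have hcard : Nat.card ((zpowers c).subgroupOf K) = p := by
      rw [Nat.card_congr (subgroupOfEquivOfLe (zpowers_le.2 hc)).toEquiv, Nat.card_zpowers, hco]
    have hZp : IsPGroup p ((zpowers c).subgroupOf K) :=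
      IsPGroup.of_card (n := 1) (by rw [hcard, pow_one])
    have hidx : ((zpowers c).subgroupOf K).index = Nat.card Q := by
      have := card_mul_index ((zpowers c).subgroupOf K)
      rw [hcard, hKc] at this
      exact Nat.eq_of_mul_eq_mul_left hp.out.pos this
    exact ⟨hZp.toSylow (by rw [hidx]; exact hQp), rfl⟩
  obtain ⟨Sa, hSa⟩ := mk a (mem_sup_left (mem_zpowers a)) ha
  obtain ⟨Sb, hSb⟩ := mk b hbK hb
  obtain ⟨k, hk⟩ := MulAction.exists_smul_eq K Sa Sb
  have hbmem : (⟨b, hbK⟩ : K) ∈ (Sb : Subgroup K) := by rw [hSb]; exact mem_zpowers b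
  rw [← hk, Sylow.coe_subgroup_smul, mem_smul_pointwise_iff_exists, ] at hbmem
  obtain ⟨c, hc, hceq⟩ := hbmem
  rw [hSa] at hc
  obtain ⟨m, hm⟩ := mem_zpowers_iff.1 (show (c : G) ∈ zpowers a from hc)
  have hbeq : b = (k : G) * a ^ m * (k : G)⁻¹ := by
    have := congrArg Subtype.val hceq
    rw [hm]
    exact this.symm
  -- compare modulo `Q`
  have h1 : ⁅(k : G), a ^ m⁆ ∈ Q := hQc _ (hKH k.2) _ (zpow_mem haH m)
  have h2 : a * ⁅(k : G), a ^ m⁆ * a ^ m = a * b := by
    rw [hbeq, commutatorElement_def]; group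
  have h3 : a * a ^ m ∈ Q := by
    have h4 : a * ⁅(k : G), a ^ m⁆ * a⁻¹ ∈ Q := hQn a haH _ h1
    have h5 := mul_mem (inv_mem h4) habQ
    rwa [← h2, show (a * ⁅(k : G), a ^ m⁆ * a⁻¹)⁻¹ * (a * ⁅(k : G), a ^ m⁆ * a ^ m) = a * a ^ m by
      group] at h5
  have h6 : a * a ^ m = 1 := by
    rw [← mem_bot, ← hdis]
    exact ⟨mul_mem (mem_zpowers a) (zpow_mem (mem_zpowers a) m), h3⟩
  refine isConj_iff.2 ⟨k, ?_⟩
  rw [hbeq, eq_inv_of_mul_eq_one_right h6]

omit hsol in
/-- The `p`-th power of the product is `p`-regular. -/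
theorem not_dvd_orderOf_mul_pow (hsol : IsPSolvable p (closure ({a, b} : Set G))) :
    ¬ p ∣ orderOf ((a * b) ^ p) := by
  obtain ⟨Q, hQH, hQn, hQp, hQc, -⟩ := exists_complement ha hb hab hsol
  set H := closure ({a, b} : Set G) with hH
  have : (Q.subgroupOf H).Normal := ⟨fun q hq h => hQn h h.2 q hq⟩
  let a' : H := ⟨a, subset_closure (Or.inl rfl)⟩
  let b' : H := ⟨b, subset_closure (Or.inr rfl)⟩
  have hc : Commute (QuotientGroup.mk' (Q.subgroupOf H) a') (QuotientGroup.mk' (Q.subgroupOf H) b') := by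
    refine commutatorElement_eq_one_iff_mul_comm.1 ?_
    rw [← map_commutatorElement, ← MonoidHom.mem_ker, QuotientGroup.ker_mk', mem_subgroupOf]
    exact hQc a a'.2 b b'.2
  have hmem : ((a' * b') ^ p : H) ∈ Q.subgroupOf H := by
    have ha' : a' ^ p = 1 := Subtype.ext (by simp [a', ← ha, pow_orderOf_eq_one])
    have hb' : b' ^ p = 1 := Subtype.ext (by simp [b', ← hb, pow_orderOf_eq_one])
    rw [← QuotientGroup.ker_mk' (Q.subgroupOf H), MonoidHom.mem_ker, map_pow, map_mul, hc.mul_pow,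
      ← map_pow, ← map_pow, ha', hb', map_one, one_mul]
  intro hd
  exact hQp (hd.trans (Subgroup.orderOf_dvd_natCard Q hmem))

omit hsol in
/-- At most one power of `a` has a `p`-regular product with `b`. -/
theorem eq_of_regular (hsol : IsPSolvable p (closure ({a, b} : Set G))) {k l : ℕ}
    (hk : ¬ p ∣ orderOf (a ^ k * b)) (hl : ¬ p ∣ orderOf (a ^ l * b)) : a ^ k = a ^ l := by
  obtain ⟨Q, -, -, hQp, -, hQr⟩ := exists_complement ha hb hab hsol
  have haH : a ∈ closure ({a, b} : Set G) := subset_closure (Or.inl rfl)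
  have hbH : b ∈ closure ({a, b} : Set G) := subset_closure (Or.inr rfl)
  have h := mul_mem (hQr _ (mul_mem (pow_mem haH k) hbH) hk)
    (inv_mem (hQr _ (mul_mem (pow_mem haH l) hbH) hl))
  rw [show a ^ k * b * (a ^ l * b)⁻¹ = a ^ k * (a ^ l)⁻¹ by group] at h
  refine mul_inv_eq_one.1 (mem_bot.1 ?_)
  have hdis : zpowers a ⊓ Q = ⊥ := by
    refine (disjoint_of_coprime_natCard ?_).eq_bot
    rw [Nat.card_zpowers, ha]
    exact hp.out.coprime_iff_not_dvd.2 hQp
  rw [← hdis]
  exact ⟨(zpowers a).mul_mem (pow_mem (mem_zpowers a) k)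
    ((zpowers a).inv_mem (pow_mem (mem_zpowers a) l)), h⟩

end CfsgLib.PGroups.PairProd
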